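import Cfsg.Prelude.Def_KGroupFacts
import Mathlib

/-!
Central extensions of perfect groups: perfect derived subgroups, homomorphisms to abelian groups, sections.
-/

set_option autoImplicit false

open scoped commutatorElement

namespace Cfsg.Agent.Spor.Cos.Fi24Mult

variable {P Q A : Type*} [Group P] [Group Q] [Group A]

/-- The derived subgroup of a central extension of a perfect group maps onto it and is perfect. -/
theorem derived_perfect (q : P →* Q) (hs : Function.Surjective q) (hc : q.ker ≤ Subgroup.center P)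
    (hQ : commutator Q = ⊤) :
    (∀ y, ∃ x : commutator P, q x = y) ∧ commutator ↥(commutator P) = ⊤ := by
  have hmap : (commutator P).map q = ⊤ := by
    rw [commutator_def, Subgroup.map_commutator, Subgroup.map_top_of_surjective q hs, ← commutator_def, hQ]
  have hd : ∀ x : P, ∃ d ∈ commutator P, ∃ z ∈ Subgroup.center P, x = d * z := by
    intro x
    obtain ⟨d, hd, e⟩ := Subgroup.mem_map.1 (hmap ▸ Subgroup.mem_top (q x) : q x ∈ (commutator P).map q)
    exact ⟨d, hd, d⁻¹ * x, hc (by rw [MonoidHom.mem_ker, map_mul, map_inv, e, inv_mul_cancel]),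
      (mul_inv_cancel_left d x).symm⟩
  refine ⟨fun y => ?_, ?_⟩
  · obtain ⟨d, hd, e⟩ := Subgroup.mem_map.1 (hmap ▸ Subgroup.mem_top y : y ∈ (commutator P).map q)
    exact ⟨⟨d, hd⟩, e⟩
  · have h2 : commutator P ≤ ⁅commutator P, commutator P⁆ := by
      conv_lhs => rw [commutator_def]
      refine Subgroup.commutator_le.2 fun x _ y _ => ?_
      obtain ⟨d, hdm, z, hz, rfl⟩ := hd x
      obtain ⟨d', hdm', z', hz', rfl⟩ := hd y
      have hzc := Subgroup.mem_center_iff.1 hz
      have hzc' := Subgroup.mem_center_iff.1 hz'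
      have : ⁅d * z, d' * z'⁆ = ⁅d, d'⁆ := by
        simp only [commutatorElement_def, mul_inv_rev]
        calc d * z * (d' * z') * (z⁻¹ * d⁻¹) * (z'⁻¹ * d'⁻¹)
            = d * (z * (d' * z')) * (z⁻¹ * d⁻¹) * (z'⁻¹ * d'⁻¹) := by group
          _ = d * ((d' * z') * z) * (z⁻¹ * d⁻¹) * (z'⁻¹ * d'⁻¹) := by rw [hzc]
          _ = d * d' * (z' * d⁻¹) * (z'⁻¹ * d'⁻¹) := by group
          _ = d * d' * (d⁻¹ * z') * (z'⁻¹ * d'⁻¹) := by rw [hzc']
          _ = d * d' * d⁻¹ * d'⁻¹ := by group
      rw [this]
      exact Subgroup.commutator_mem_commutator hdm hdm'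
    refine eq_top_iff.2 fun x _ => ?_
    have := h2 x.2
    rw [← Subgroup.map_subtype_commutator] at this
    obtain ⟨y, hy, e⟩ := this
    rwa [← Subtype.ext e]

/-- A homomorphism of a perfect group to one with commuting values is trivial. -/
theorem hom_eq_one (hP : commutator P = ⊤) (f : P →* A) (hf : ∀ x y, Commute (f x) (f y)) (x : P) : f x = 1 := by
  have hle : commutator P ≤ f.ker := by
    rw [commutator_def]
    refine Subgroup.commutator_le.2 fun a _ b _ => ?_
    rw [MonoidHom.mem_ker, map_commutatorElement, commutatorElement_eq_one_iff_commute]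
    exact hf a b
  exact hle (hP ▸ Subgroup.mem_top x)

/-- A stem extension of a perfect group is perfect. -/
theorem stem_perfect (q : P →* Q) (h : Cfsg.IsStemExtension q) (hQ : commutator Q = ⊤) : commutator P = ⊤ := by
  obtain ⟨hy, -⟩ := derived_perfect q h.1 h.2.1 hQ
  refine eq_top_iff.2 fun x _ => ?_
  obtain ⟨d, e⟩ := hy (q x)
  have : (d : P)⁻¹ * x ∈ commutator P := h.2.2 (by rw [MonoidHom.mem_ker, map_mul, map_inv, e, inv_mul_cancel])
  have := mul_mem d.2 this
  rwa [mul_inv_cancel_left] at this

/-- Lift a homomorphism from a perfect group without multiplier along a central extension. -/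
theorem exists_lift {R : Type} [Group R] [Finite R] (hR : Cfsg.HasCyclicSchurMultiplier R 1)
    (hp : commutator R = ⊤) {D G : Type} [Group D] [Finite D] [Group G] (q : D →* G) (hs : Function.Surjective q)
    (hc : q.ker ≤ Subgroup.center D) (f : R →* G) : ∃ s : R →* D, ∀ r, q (s r) = f r := by
  let S : Subgroup (D × R) :=
    { carrier := {x | q x.1 = f x.2}
      one_mem' := by simp
      mul_mem' := fun {a b} ha hb => by simp only [Set.mem_setOf_eq] at *; simp [ha, hb]
      inv_mem' := fun {a} ha => by simp only [Set.mem_setOf_eq] at *; simp [ha] }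
  let p : S →* R := (MonoidHom.snd D R).comp S.subtype
  have hps : Function.Surjective p := fun r => by
    obtain ⟨d, hd⟩ := hs (f r)
    exact ⟨⟨(d, r), hd⟩, rfl⟩
  have hpc : p.ker ≤ Subgroup.center S := by
    rintro ⟨⟨d, r⟩, hdr⟩ hx
    obtain rfl : r = 1 := hx
    have hd : d ∈ Subgroup.center D := hc (by simpa [S] using hdr)
    refine Subgroup.mem_center_iff.2 fun y => Subtype.ext (Prod.ext ?_ (by simp))
    exact Subgroup.mem_center_iff.1 hd _
  obtain ⟨hy, hperf⟩ := derived_perfect p hps hpc hp
  let p' : ↥(commutator S) →* R := p.comp (commutator S).subtype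
  have hst : Cfsg.IsStemExtension p' :=
    ⟨hy, fun x hx => Subgroup.mem_center_iff.2 fun y => Subtype.ext (Subgroup.mem_center_iff.1 (hpc hx) y),
      hperf ▸ le_top⟩
  obtain ⟨π, hπ⟩ := hR.2 _ p' hst
  have hinj : Function.Injective p' := by
    refine (injective_iff_map_eq_one p').2 fun x hx => ?_
    obtain ⟨a, ha⟩ := hπ ⟨x, hx⟩
    have : π a = 1 := by rw [Subsingleton.elim a 1, map_one]
    simpa [this] using (congrArg Subtype.val ha).symm
  let e := MulEquiv.ofBijective p' ⟨hinj, hy⟩
  refine ⟨((MonoidHom.fst D R).comp (S.subtype.comp (commutator S).subtype)).comp e.symm.toMonoidHom, fun r => ?_⟩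
  have h1 : ((e.symm r : ↥(commutator S)) : S).1.2 = r := e.apply_symm_apply r
  show q ((e.symm r : ↥(commutator S)) : S).1.1 = f r
  rw [((e.symm r : ↥(commutator S)) : S).2, h1]

end Cfsg.Agent.Spor.Cos.Fi24Mult
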