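import Cfsg.Agent.Lib.Spor.Cos.Fi24Mult.Ext

/-!
Extensions whose kernel is inverted by the odd elements and has no element of order two: a shift of the lift of k
makes all relators but the last hold.
-/

set_option autoImplicit false
set_option maxRecDepth 100000
set_option maxHeartbeats 4000000

open Cfsg Cfsg.Spor

namespace Cfsg.Agent.Spor.Cos.Fi24Mult

open Fi24Up

namespace Ext

variable {Γ : Type} [Group Γ] (E : Ext Γ)

theorem T_cancel (s : ℕ) (y : Γ) : E.T s * (E.T s * y) = y := by rw [← mul_assoc, E.T_sq, one_mul]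

theorem L_cancel (y : Γ) : E.L * (E.L * y) = y := by rw [← mul_assoc, E.L_sq, one_mul]

theorem K_cancel (y : Γ) : E.K * (E.K * y) = y := by rw [← mul_assoc, E.K_sq, one_mul]

theorem sgn_T {s : ℕ} (hs : s < 12) : sgn (E.p (E.T s)) = -1 := by rw [E.p_T, sgn_g hs]

theorem T_comm_H {s t : ℕ} (h : okH [s, t, s, t] = true) (hd : derivedOk 12 words [s, t, s, t] = true) :
    (E.T s * E.T t) ^ 2 = 1 := by
  have := E.exact_H h (ev_derived (fun u _ => g_sq u) g_words hd)
  simpa [ev, pow_succ, mul_assoc] using this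

/-- The odd elements invert the kernel. -/
def Inverts : Prop := ∀ x z, sgn (E.p x) = -1 → E.p z = 1 → x * z * x⁻¹ = z⁻¹

/-- The kernel has no element of order two. -/
def NoTwo : Prop := ∀ z, E.p z = 1 → z * z = 1 → z = 1

variable {E}

theorem Inverts.swap (hi : E.Inverts) {x z : Γ} (hx : sgn (E.p x) = -1) (hz : E.p z = 1) :
    z * x = x * z⁻¹ := by
  have h := hi x z⁻¹ hx (by rw [map_inv, hz, inv_one])
  rw [inv_inv] at h
  calc z * x = x * z⁻¹ * x⁻¹ * x := by rw [h]
    _ = x * z⁻¹ := inv_mul_cancel_right _ _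

theorem Inverts.pair_pow (hi : E.Inverts) {x y c d : Γ} (hx : sgn (E.p x) = -1) (hy : sgn (E.p y) = -1)
    (hc : E.p c = 1) (hd : E.p d = 1) (n : ℕ) : (x * c * (y * d)) ^ n = (x * y) ^ n * (c⁻¹ * d) ^ n := by
  have e : x * c * (y * d) = x * y * (c⁻¹ * d) := by
    rw [mul_assoc x c, ← mul_assoc c, hi.swap hy hc]
    simp only [mul_assoc]
  rw [e, Commute.mul_pow]
  exact E.even_comm _ _ (by rw [map_mul, map_mul, hx, hy]; decide) (by rw [map_mul, map_inv, hc, hd]; simp)

theorem exists_cox [Finite Γ] (hi : E.Inverts) (h2 : E.NoTwo) : ∃ E' : Ext Γ, E'.p = E.p ∧ E'.Cox := by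
  have hKi : E.K⁻¹ = E.K := inv_eq_of_mul_eq_one_left E.K_sq
  have sK : sgn (E.p E.K) = -1 := by rw [E.p_K, sgn_g (by omega)]
  have sL : sgn (E.p E.L) = -1 := by rw [E.p_L, sgn_g (by omega)]
  let c : ℕ → Γ := fun s => E.T s * E.K * E.T s * E.K
  have hc : ∀ s, E.K * E.T s * E.K = E.T s * c s := fun s => by
    simp [c, ← mul_assoc, E.T_sq]
  have pc : ∀ s, 3 ≤ s → s < 12 → E.p (c s) = 1 := fun s h3 h => by
    simp only [c, map_mul, E.p_T, E.p_K]
    have e : g 1 * g s = g s * g 1 := by interval_cases s <;> exact g_comm (by decide +kernel)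
    rw [mul_assoc (g s), e, ← mul_assoc, g_sq, one_mul, g_sq]
  have sq_bij : ∀ z, E.p z = 1 → ∃ r, E.p r = 1 ∧ r * r = z := by
    intro z hz
    let f : E.p.ker → E.p.ker := fun r => r * r
    have hf : Function.Injective f := fun a b h => by
      have h' : (a : Γ) * a = (b : Γ) * b := congrArg Subtype.val h
      have hcm : Commute (a : Γ) (b : Γ)⁻¹ := by
        refine E.even_comm _ _ ?_ ?_
        · rw [MonoidHom.mem_ker.1 a.2, map_one]
        · rw [map_inv, MonoidHom.mem_ker.1 b.2, inv_one]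
      have : (a : Γ) * (b : Γ)⁻¹ = 1 := by
        refine h2 _ (by rw [map_mul, map_inv, MonoidHom.mem_ker.1 a.2, MonoidHom.mem_ker.1 b.2]; simp) ?_
        rw [← pow_two, hcm.mul_pow, pow_two, h', pow_two]
        group
      exact Subtype.ext (mul_inv_eq_one.1 this)
    obtain ⟨r, hr⟩ := (Finite.injective_iff_surjective.1 hf) ⟨z, hz⟩
    exact ⟨r, r.2, congrArg Subtype.val hr⟩
  have pair : ∀ s t, 3 ≤ s → s < 12 → 3 ≤ t → t < 12 → (E.T s * E.T t) ^ 2 = 1 → c s = c t := by
    intro s t hs3 hs ht3 ht he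
    have h : (E.T s * c s * (E.T t * c t)) ^ 2 = 1 := by
      rw [← hc, ← hc, show E.K * E.T s * E.K * (E.K * E.T t * E.K) = E.K * (E.T s * E.T t) * E.K⁻¹ by
        rw [hKi]; simp [mul_assoc, ← mul_assoc E.K E.K, E.K_sq], conj_pow, he, mul_one, mul_inv_cancel]
    rw [hi.pair_pow (E.sgn_T hs) (E.sgn_T ht) (pc s hs3 hs) (pc t ht3 ht), he, one_mul, pow_two] at h
    have := h2 _ (by rw [map_mul, map_inv, pc s hs3 hs, pc t ht3 ht]; simp) h
    exact inv_mul_eq_one.1 this
  have hall : ∀ s, 3 ≤ s → s < 12 → c s = c 3 := by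
    intro s h3 h
    have far : ∀ {a b}, okH [a, b, a, b] = true → derivedOk 12 words [a, b, a, b] = true →
        3 ≤ a → a < 12 → 3 ≤ b → b < 12 → c a = c b :=
      fun ho hd a3 a12 b3 b12 => pair _ _ a3 a12 b3 b12 (E.T_comm_H ho hd)
    rcases Nat.lt_or_ge s 5 with h5 | h5
    · interval_cases s
      · rfl
      · exact (far (a := 4) (b := 6) (by decide +kernel) (by decide +kernel) (by omega) (by omega) (by omega)
          (by omega)).trans (far (a := 3) (b := 6) (by decide +kernel) (by decide +kernel) (by omega) (by omega)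
          (by omega) (by omega)).symm
    · exact (far (a := 3) (b := s) (by interval_cases s <;> decide +kernel)
        (by interval_cases s <;> decide +kernel) (by omega) (by omega) h3 h).symm
  obtain ⟨r, hr, hr2⟩ := sq_bij (c 3)⁻¹ (by rw [map_inv, pc 3 le_rfl (by omega), inv_one])
  let E' : Ext Γ :=
    { E with
      K := E.K * r
      p_K := by rw [map_mul, E.p_K, hr, mul_one]
      K_sq := by
        rw [mul_assoc, ← mul_assoc r, hi.swap sK hr, mul_assoc E.K, inv_mul_cancel, mul_one, E.K_sq] }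
  refine ⟨E', rfl, ?_⟩
  have hT' : ∀ s, 2 ≤ s → E'.T s = E.T s := fun s hs => by
    simp only [T]
    rw [if_neg (show ¬ s = 0 by omega), if_neg (show ¬ s = 1 by omega), if_neg (show ¬ s = 0 by omega),
      if_neg (show ¬ s = 1 by omega)]
  set K := E'.K with hK
  set A := E'.T 2 with hA
  set B := E'.T 3 with hB
  set L := E'.L with hL
  have hKi' : K⁻¹ = K := inv_eq_of_mul_eq_one_left E'.K_sq
  have hAi : A⁻¹ = A := E'.T_inv 2
  have hLi : L⁻¹ = L := inv_eq_of_mul_eq_one_left E'.L_sq
  have hi' : E'.Inverts := hi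
  have h2' : E'.NoTwo := h2
  have h1 : ∀ s, 3 ≤ s → s < 12 → Commute K (E'.T s) := by
    intro s h3 h
    have : K * E'.T s * K = E'.T s := by
      rw [hT' s (by omega)]
      show E.K * r * E.T s * (E.K * r) = E.T s
      calc E.K * r * E.T s * (E.K * r) = E.K * (r * E.T s) * E.K * r := by simp only [mul_assoc]
        _ = E.K * E.T s * (r⁻¹ * E.K) * r := by rw [hi.swap (E.sgn_T h) hr]; simp only [mul_assoc]
        _ = E.K * E.T s * E.K * (r * r) := by
          rw [hi.swap sK (show E.p r⁻¹ = 1 by rw [map_inv, hr, inv_one]), inv_inv]; simp only [mul_assoc]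
        _ = E.T s := by rw [hr2, hc, hall s h3 h, mul_inv_cancel_right]
    calc K * E'.T s = K * E'.T s * (K * K) := by rw [E'.K_sq, mul_one]
      _ = E'.T s * K := by rw [← mul_assoc, this]
  have sK' : sgn (E'.p K) = -1 := by rw [E'.p_K, sgn_g (by omega)]
  have sA : sgn (E'.p A) = -1 := E'.sgn_T (by omega)
  have sL' : sgn (E'.p L) = -1 := sL
  have pbr : ∀ {x y : Γ} {s t : ℕ}, E'.p x = g s → E'.p y = g t → derivedOk 12 words [s, t, s, t, s, t] = true →
      E'.p ((x * y) ^ 3) = 1 := fun {x y s t} hx hy hd => by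
    rw [map_pow, map_mul, hx, hy]
    simpa [pow_succ, mul_assoc] using g_braid hd
  -- the relation of k and a
  set Y := A * K * A with hY
  set a := Y⁻¹ * (K * A * K) with ha
  have hYi : Y⁻¹ = Y := by rw [hY]; simp [mul_inv_rev, hKi', hAi, mul_assoc]
  have pa : E'.p a = 1 := by
    have pK : E'.p K = g 1 := E'.p_K
    have := g_braid (s := 2) (t := 1) (by decide +kernel)
    rw [ha, hYi, hY]
    simp only [map_mul, hA, E'.p_T, pK]
    simpa [mul_assoc] using this
  have sY : sgn (E'.p Y) = -1 := by simp [hY, sA, sK']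
  have hq : (K * A) ^ 3 = a⁻¹ := by
    have e : (K * A) ^ 3 = Y * a * Y := by
      rw [ha, mul_inv_cancel_left, hY]; simp [pow_succ, mul_assoc]
    rw [e]
    conv_lhs => rw [show Y * a * Y = Y * a * Y⁻¹ by rw [hYi]]
    exact hi' Y a sY pa
  have ha1 : a = 1 := by
    have hKB : Commute K B := h1 3 le_rfl (by omega)
    have hAB : (A * B) ^ 3 = 1 := by
      have := E'.exact_H (w := [2, 3, 2, 3, 2, 3]) (by decide +kernel)
        (ev_derived (n := 12) (fun u _ => g_sq u) g_words (by decide +kernel))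
      simpa [ev, pow_succ, mul_assoc, hA, hB] using this
    have hconj : (Y * a * (B * 1)) ^ 3 = 1 := by
      have e : Y * a * (B * 1) = K * (A * B) * K⁻¹ := by
        rw [ha, mul_inv_cancel_left, hKi', mul_one]
        simp only [mul_assoc]
        rw [hKB.eq]
      rw [e, conj_pow, hAB, mul_one, mul_inv_cancel]
    rw [hi'.pair_pow sY (E'.sgn_T (by omega)) pa (map_one _), mul_one] at hconj
    have hbr : A * B * A = B * A * B := by
      have h6 : A * B * A * B * A * B = 1 := by simpa [pow_succ, mul_assoc] using hAB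
      calc A * B * A = A * B * A * B * A * B * (B * A * B) := by
            simp [mul_assoc, hA, hB, E'.T_sq, E'.T_cancel]
        _ = B * A * B := by rw [h6, one_mul]
    have eYB : Y * B = A * B * (K * A) * (A * B)⁻¹ := by
      rw [hY, mul_inv_rev, hAi, show B⁻¹ = B from E'.T_inv 3]
      calc A * K * A * B = A * K * (A * B * A) * A := by simp [mul_assoc, hA, E'.T_sq, E'.T_cancel]
        _ = A * (K * B) * A * B * A := by rw [hbr]; simp only [mul_assoc]
        _ = A * B * (K * A) * (B * A) := by rw [hKB.eq]; simp only [mul_assoc]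
    rw [eYB, conj_pow, hq] at hconj
    have hcm : Commute (A * B) a⁻¹ := E'.even_comm _ _
      (by rw [map_mul, map_mul, sA, E'.sgn_T (s := 3) (by omega)]; decide) (by rw [map_inv, pa, inv_one])
    rw [hcm.eq, mul_inv_cancel_right, ← pow_succ'] at hconj
    have h4 : (a⁻¹ * a⁻¹) * (a⁻¹ * a⁻¹) = 1 := by simpa [pow_succ, mul_assoc] using hconj
    have h4' := h2' _ (by simp [pa]) h4
    exact inv_eq_one.1 (h2' _ (by simp [pa]) h4')
  have hKA : K * A * K = Y := by
    have := ha1
    rw [ha, inv_mul_eq_one] at this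
    exact this.symm
  -- the relation of l and k
  set X := L * K * L with hX
  set b := X⁻¹ * (K * L * K) with hb
  have hXi : X⁻¹ = X := by rw [hX]; simp [mul_inv_rev, hKi', hLi, mul_assoc]
  have sX : sgn (E'.p X) = -1 := by simp [hX, sL', sK']
  have hLK : (L * K) ^ 3 = b := by rw [hb, hXi, hX]; simp [pow_succ, mul_assoc]
  have pb : E'.p b = 1 := hLK ▸ pbr E'.p_L E'.p_K (s := 0) (t := 1) (by decide +kernel)
  have hLA : Commute L A := by
    rw [hA, show E'.T 2 = E'.s (Fi23.g 0) * L from E'.T_add (s := 0) (by omega)]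
    exact (E'.L_comm _).mul_right (Commute.refl _)
  have hb1 : b = 1 := by
    have hLA2 : (L * A) ^ 2 = 1 := by
      rw [hLA.mul_pow, pow_two, pow_two, E'.L_sq, hA, E'.T_sq, one_mul]
    have hconj : (X * b * (Y * 1)) ^ 2 = 1 := by
      have e : X * b * (Y * 1) = K * (L * A) * K⁻¹ := by
        rw [hb, mul_inv_cancel_left, mul_one, ← hKA, hKi']
        simp [mul_assoc, hK, E'.K_sq, E'.K_cancel]
      rw [e, conj_pow, hLA2, mul_one, mul_inv_cancel]
    rw [hi'.pair_pow sX sY pb (map_one _), mul_one] at hconj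
    have e1 : L * A * X * (L * A)⁻¹ = Y := by
      have e : L * A * L = A := by rw [hLA.eq, mul_assoc, E'.L_sq, mul_one]
      rw [hX, hY, mul_inv_rev, hLi, hAi]
      calc L * A * (L * K * L) * (A * L) = L * A * L * K * (L * A * L) := by simp only [mul_assoc]
        _ = A * K * A := by rw [e]
    have e2 : L * A * Y * (L * A)⁻¹ = X := by
      rw [hX, hY, mul_inv_rev, hLi, hAi]
      simp [mul_assoc, hA, E'.T_sq, E'.T_cancel]
    have hw : E'.p ((X * Y) ^ 2) = 1 := by
      rw [eq_inv_of_mul_eq_one_left hconj, map_inv, map_pow, map_inv, pb]; simp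
    have hcm : Commute (L * A) ((X * Y) ^ 2) :=
      E'.even_comm _ _ (by rw [map_mul, map_mul, sL', sA]; decide) hw
    have hw2 : (X * Y) ^ 2 * (X * Y) ^ 2 = 1 := by
      have e : (X * Y) ^ 2 = (Y * X) ^ 2 := by
        calc (X * Y) ^ 2 = L * A * (X * Y) ^ 2 * (L * A)⁻¹ := by rw [hcm.eq, mul_inv_cancel_right]
          _ = (L * A * X * (L * A)⁻¹ * (L * A * Y * (L * A)⁻¹)) ^ 2 := by rw [← conj_pow]; group
          _ = (Y * X) ^ 2 := by rw [e1, e2]
      conv_lhs => arg 2; rw [e]
      have : Y * X = (X * Y)⁻¹ := by rw [mul_inv_rev, hXi, hYi]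
      rw [this, inv_pow, mul_inv_cancel]
    rw [h2' _ hw hw2, one_mul, pow_two] at hconj
    exact inv_eq_one.1 (h2' _ (by simp [pb]) hconj)
  refine E'.cox_of (by rw [← hL, ← hK, hLK, hb1]) ?_ h1
  rw [← hA, ← hK, hq, ha1, inv_one]

end Ext

end Cfsg.Agent.Spor.Cos.Fi24Mult
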