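import Cfsg.Agent.Lib.Spor.Cos.Fi24Mult.CaseCentral
import Cfsg.Agent.Lib.Spor.Cos.Fi24Mult.CaseInv
import Cfsg.Agent.Lib.Spor.Cos.Fi23Mult.Top

/-!
The kernel of a stem extension of Fi24' is cyclic of order dividing three.
-/

set_option autoImplicit false
set_option maxRecDepth 100000
set_option maxHeartbeats 4000000

open Cfsg Cfsg.Spor
open scoped commutatorElement

namespace Cfsg.Agent.Spor.Cos.Fi24Mult

open Fi24Up

theorem sgn_commutator {y : Spor.Fi24} (hy : y ∈ commutator Spor.Fi24) : sgn y = 1 := by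
  have hle : commutator Spor.Fi24 ≤ sgn.ker := by
    rw [commutator_def]
    refine Subgroup.commutator_le.2 fun a _ b _ => ?_
    rw [MonoidHom.mem_ker, map_commutatorElement, commutatorElement_eq_one_iff_commute]
    exact mul_comm _ _
  exact hle hy

theorem fi24'_perfect : commutator Spor.Fi24' = ⊤ := by
  have : IsSimpleGroup Spor.Fi24' := isFi24'.1
  rcases (commutator Spor.Fi24').normal_of_characteristic.eq_bot_or_eq_top with h | h
  · exfalso
    have hc : ∀ x y : Spor.Fi24', Commute x y := fun x y => by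
      have : ⁅x, y⁆ ∈ commutator Spor.Fi24' := by
        exact Subgroup.commutator_mem_commutator (Subgroup.mem_top x) (Subgroup.mem_top y)
      rw [h, Subgroup.mem_bot] at this
      exact commutatorElement_eq_one_iff_commute.1 this
    have h1 := hom_eq_one fi23_perfect (phi.codRestrict _ phi_mem_commutator) (fun _ _ => hc _ _) (Fi23.g 0)
    have h2 : phi (Fi23.g 0) = 1 := congrArg Subtype.val h1
    have := phi_injective (h2.trans (map_one phi).symm)
    have h3 := congrArg phi this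
    rw [phi_g, sigma, if_pos (by omega), map_one] at h3
    exact g_zero_ne_two ((eq_inv_of_mul_eq_one_left h3).trans (g_inv 0)).symm
  · exact h

/-- A perfect group over the relators, all in a normal subgroup, has its kernel there. -/
theorem ker_mem {Γ : Type} [Group Γ] (E : Ext Γ) (R : Subgroup Γ) [R.Normal] (hR : R ≤ E.p.ker)
    (hw : ∀ w ∈ words, ev E.T w ∈ R) {D : Type} [Group D] (hD : commutator D = ⊤) (i : D →* Γ)
    {d : D} (hd : E.p (i d) = 1) : i d ∈ R := by
  let π : Γ →* Γ ⧸ R := QuotientGroup.mk' R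
  obtain ⟨h, hh⟩ := Fi24Up.pres.exists_hom (fun s => π (E.T s))
    (fun s => by rw [← map_mul, E.T_sq, map_one])
    (fun w hwm => by
      rw [← ev_map π]
      exact (QuotientGroup.eq_one_iff _).2 (hw w hwm))
    (fun s hs => by
      have : 12 ≤ s := hs
      simp [Ext.T, show ¬ s = 0 by omega, show ¬ s = 1 by omega, show ¬ s < 12 by omega])
  let q : Γ ⧸ R →* Spor.Fi24 := QuotientGroup.lift R E.p hR
  have hq : ∀ x, q (π x) = E.p x := fun x => rfl
  have hid : ∀ y, q (h y) = y := fun y => by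
    have hy : y ∈ Subgroup.closure {x | ∃ s < 12, g s = x} := g_gen ▸ Subgroup.mem_top y
    induction hy using Subgroup.closure_induction with
    | mem x hx =>
      obtain ⟨s, -, rfl⟩ := hx
      have e : h (g s) = π (E.T s) := hh s
      rw [e, hq, E.p_T]
    | one => simp
    | mul a b _ _ ha hb => rw [map_mul, map_mul, ha, hb]
    | inv a _ ha => rw [map_inv, map_inv, ha]
  have hev : ∀ a, sgn (E.p (i a)) = 1 := fun a => hom_eq_one hD (sgn.comp (E.p.comp i)) (fun _ _ => mul_comm _ _) a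
  let F : D → Γ ⧸ R := fun a => π (i a) * (h (E.p (i a)))⁻¹
  have hF : ∀ a, ∃ z, E.p z = 1 ∧ π z = F a := fun a => by
    obtain ⟨z, hz⟩ := QuotientGroup.mk_surjective (F a)
    refine ⟨z, ?_, hz⟩
    rw [← hq, show π z = F a from hz, map_mul, map_inv, hq, hid, mul_inv_cancel]
  have hFc : ∀ a b, Commute (π (i a)) (F b) := fun a b => by
    obtain ⟨z, hz, e⟩ := hF b
    rw [← e]
    exact (E.even_comm _ _ (hev a) hz).map π
  let f : D →* Γ ⧸ R := MonoidHom.mk' F fun a b => by
    show π (i (a * b)) * (h (E.p (i (a * b))))⁻¹ = F a * F b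
    rw [map_mul i, map_mul E.p, map_mul h, mul_inv_rev, map_mul π]
    calc π (i a) * π (i b) * ((h (E.p (i b)))⁻¹ * (h (E.p (i a)))⁻¹)
        = π (i a) * F b * (h (E.p (i a)))⁻¹ := by simp only [F, mul_assoc]
      _ = F b * F a := by rw [(hFc a b).eq]; simp only [F, mul_assoc]
      _ = F a * F b := by
        obtain ⟨z, hz, e⟩ := hF b
        obtain ⟨z', hz', e'⟩ := hF a
        rw [← e, ← e']
        exact ((E.even_comm _ _ (by rw [hz, map_one]) hz').map π).eq
  have hf : f d = 1 := hom_eq_one hD f (fun a b => by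
    obtain ⟨z, hz, e⟩ := hF a
    obtain ⟨z', hz', e'⟩ := hF b
    show Commute (F a) (F b)
    rw [← e, ← e']
    exact (E.even_comm _ _ (by rw [hz, map_one]) hz').map π) d
  refine (QuotientGroup.eq_one_iff _).1 ?_
  show π (i d) = 1
  simpa [f, F, hd] using hf

/-- The kernel of an extension covered by a perfect group is generated by an element of order dividing three. -/
theorem ker_three {Γ : Type} [Group Γ] [Finite Γ] (E : Ext Γ)
    (hK : ∃ k0, E.p k0 = g 1 ∧ E.K = E.L * k0 * E.L * k0⁻¹ * E.L) {D : Type} [Group D] (hD : commutator D = ⊤)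
    (i : D →* Γ) (hi : ∀ z, E.p z = 1 → ∃ d, i d = z) :
    ∃ r, E.p r = 1 ∧ r ^ 3 = 1 ∧ ∀ z, E.p z = 1 → z ∈ Subgroup.zpowers r := by
  have hLi : E.L⁻¹ = E.L := inv_eq_of_mul_eq_one_left E.L_sq
  have hkc : ∀ a b : E.p.ker, Commute (a : Γ) b := fun a b =>
    E.even_comm _ _ (by rw [MonoidHom.mem_ker.1 a.2, map_one]) b.2
  have hkL : ∀ z : Γ, E.p z = 1 → E.p (E.L * z * E.L) = 1 := fun z hz => by
    rw [map_mul, map_mul, hz, mul_one, ← map_mul, E.L_sq, map_one]
  let dl : E.p.ker →* Γ := MonoidHom.mk' (fun z => (z : Γ) * (E.L * (z : Γ)⁻¹ * E.L)) fun a b => by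
    have c : Commute (b : Γ) (E.L * (a : Γ)⁻¹ * E.L) :=
      E.even_comm _ _ (by rw [MonoidHom.mem_ker.1 b.2, map_one]) (hkL _ (by
        rw [map_inv, MonoidHom.mem_ker.1 a.2, inv_one]))
    rw [Subgroup.coe_mul]
    calc (a : Γ) * b * (E.L * ((a : Γ) * b)⁻¹ * E.L)
        = (a : Γ) * b * ((E.L * (a : Γ)⁻¹ * E.L) * (E.L * (b : Γ)⁻¹ * E.L)) := by
          rw [mul_inv_rev, (hkc a b).inv_inv.symm.eq]
          simp [mul_assoc, ← mul_assoc E.L E.L, E.L_sq]
      _ = (a : Γ) * (b * (E.L * (a : Γ)⁻¹ * E.L)) * (E.L * (b : Γ)⁻¹ * E.L) := by simp only [mul_assoc]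
      _ = _ := by rw [c.eq]; simp only [mul_assoc]
  have hdl : ∀ z, E.p (dl z) = 1 := fun z => by
    show E.p ((z : Γ) * (E.L * (z : Γ)⁻¹ * E.L)) = 1
    rw [map_mul, hkL _ (by rw [map_inv, MonoidHom.mem_ker.1 z.2, inv_one]), MonoidHom.mem_ker.1 z.2, mul_one]
  have hodd : ∀ x, sgn (E.p x) = -1 → ∀ z, E.p z = 1 → x * z * x⁻¹ = E.L * z * E.L := fun x hx z hz => by
    have c : Commute (x * E.L) (E.L * z * E.L) := E.even_comm _ _
      (by rw [map_mul, map_mul, hx, E.p_L, sgn_g (by omega)]; decide) (hkL z hz)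
    calc x * z * x⁻¹ = (x * E.L) * (E.L * z * E.L) * (x * E.L)⁻¹ := by
          simp [mul_assoc, ← mul_assoc E.L E.L, E.L_sq]
      _ = E.L * z * E.L := by rw [c.eq, mul_inv_cancel_right]
  have hcases : ∀ x, sgn (E.p x) = 1 ∨ sgn (E.p x) = -1 := fun x => Int.units_eq_one_or _
  have hnorm : dl.range.Normal := by
    constructor
    rintro _ ⟨z, rfl⟩ x
    rcases hcases x with hx | hx
    · rw [(E.even_comm x _ hx (hdl z)).eq, mul_inv_cancel_right]; exact ⟨z, rfl⟩
    · rw [hodd x hx _ (hdl z)]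
      refine ⟨⟨E.L * (z : Γ) * E.L, hkL _ z.2⟩, ?_⟩
      show E.L * (z : Γ) * E.L * (E.L * (E.L * (z : Γ) * E.L)⁻¹ * E.L) = E.L * ((z : Γ) * (E.L * (z : Γ)⁻¹ * E.L)) * E.L
      simp [mul_assoc, mul_inv_rev, hLi, ← mul_assoc E.L E.L, E.L_sq]
  set R0 := dl.range
  have hR0 : R0 ≤ E.p.ker := by rintro _ ⟨z, rfl⟩; exact hdl z
  let π : Γ →* Γ ⧸ R0 := QuotientGroup.mk' R0
  let q : Γ ⧸ R0 →* Spor.Fi24 := QuotientGroup.lift R0 E.p hR0
  let E1 : Ext (Γ ⧸ R0) :=
    { p := q
      s := π.comp E.s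
      L := π E.L
      K := π E.K
      p_s := E.p_s
      p_L := E.p_L
      p_K := E.p_K
      L_sq := by rw [← map_mul, E.L_sq, map_one]
      K_sq := by rw [← map_mul, E.K_sq, map_one]
      L_comm := fun f => (E.L_comm f).map π
      even_comm := fun x z hx hz => by
        obtain ⟨x, rfl⟩ := QuotientGroup.mk_surjective x
        obtain ⟨z, rfl⟩ := QuotientGroup.mk_surjective z
        exact (E.even_comm x z hx hz).map π }
  have hcen : ∀ x z, E1.p z = 1 → Commute x z := by
    intro x z hz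
    obtain ⟨x, rfl⟩ := QuotientGroup.mk_surjective x
    obtain ⟨z, rfl⟩ := QuotientGroup.mk_surjective z
    have hz' : E.p z = 1 := hz
    rcases hcases x with hx | hx
    · exact (E.even_comm x z hx hz').map π
    · have hmem : x * z * x⁻¹ * z⁻¹ ∈ R0 := by
        rw [hodd x hx z hz']
        refine ⟨⟨z⁻¹, by rw [MonoidHom.mem_ker, map_inv, hz', inv_one]⟩, ?_⟩
        show z⁻¹ * (E.L * z⁻¹⁻¹ * E.L) = E.L * z * E.L * z⁻¹
        rw [inv_inv]
        exact E.even_comm _ _ (by rw [map_inv, hz', inv_one, map_one]) (hkL z hz')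
      have he : π (x * z * x⁻¹ * z⁻¹) = 1 := (QuotientGroup.eq_one_iff _).2 hmem
      rw [map_mul, map_mul, map_mul, map_inv, map_inv] at he
      exact commutatorElement_eq_one_iff_commute.1 (by rw [commutatorElement_def]; exact he)
  have hrel : ∀ w ∈ words, ev E.T w ∈ R0 := by
    intro w hw
    have h1 := E1.central_spider hcen (by
      obtain ⟨k0, hk, e⟩ := hK
      exact ⟨π k0, hk, by show π E.K = _; rw [e]; simp only [map_mul, map_inv]; rfl⟩) w hw
    refine (QuotientGroup.eq_one_iff _).1 ?_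
    show π (ev E.T w) = 1
    rw [ev_map]
    refine Eq.trans (congrArg (ev · w) (funext fun s => ?_)) h1
    simp only [Ext.T]
    split_ifs <;> first | rfl | rw [map_mul]; rfl | exact map_one π
  have hsur : ∀ z, E.p z = 1 → z ∈ R0 := fun z hz => by
    obtain ⟨d, rfl⟩ := hi z hz
    exact ker_mem E R0 hR0 hrel hD i hz
  let dk : E.p.ker → E.p.ker := fun z => ⟨dl z, hdl z⟩
  have hinj : Function.Injective dk := Finite.injective_iff_surjective.2 fun z => by
    obtain ⟨u, hu⟩ := hsur z z.2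
    exact ⟨u, Subtype.ext hu⟩
  have hfix : ∀ z, E.p z = 1 → E.L * z * E.L = z → z = 1 := fun z hz he => by
    have : dk ⟨z, hz⟩ = dk 1 := Subtype.ext (by
      show z * (E.L * z⁻¹ * E.L) = (1 : Γ) * (E.L * (1 : Γ)⁻¹ * E.L)
      have : E.L * z⁻¹ * E.L = z⁻¹ := by
        conv_rhs => rw [← he]
        simp [mul_inv_rev, hLi, mul_assoc]
      rw [this]; simp [E.L_sq])
    exact congrArg Subtype.val (hinj this)
  have hLinv : ∀ z, E.p z = 1 → E.L * z * E.L = z⁻¹ := fun z hz => by
    have h := hfix (z * (E.L * z * E.L)) (by rw [map_mul, hz, hkL z hz, one_mul]) (by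
      rw [show E.L * (z * (E.L * z * E.L)) * E.L = E.L * z * E.L * z by
        simp [mul_assoc, E.L_sq]]
      exact (E.even_comm _ _ (by rw [hkL z hz, map_one]) hz).eq)
    exact eq_inv_of_mul_eq_one_right h
  have hI : E.Inverts := fun x z hx hz => (hodd x hx z hz).trans (hLinv z hz)
  have hT : E.NoTwo := fun z hz h2 => hfix z hz ((hLinv z hz).trans (inv_eq_of_mul_eq_one_left h2))
  obtain ⟨E', hp, hC⟩ := Ext.exists_cox hI hT
  set r := ev E'.T spiderWord
  have hpr : E.p r = 1 := hp ▸ Ext.p_spider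
  refine ⟨r, hpr, hC.spider_three, fun z hz => ?_⟩
  have : (Subgroup.zpowers r).Normal := by
    constructor
    intro y hy x
    have hy1 : E.p y = 1 := by
      obtain ⟨k, rfl⟩ := Subgroup.mem_zpowers_iff.1 hy
      rw [map_zpow, hpr, one_zpow]
    rcases hcases x with hx | hx
    · rwa [(E.even_comm x y hx hy1).eq, mul_inv_cancel_right]
    · rw [hI x y hx hy1]; exact inv_mem hy
  have hle : Subgroup.zpowers r ≤ E'.p.ker := by
    rw [Subgroup.zpowers_le, MonoidHom.mem_ker, hp]; exact hpr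
  have hw' : ∀ w ∈ words, ev E'.T w ∈ Subgroup.zpowers r := by
    intro w hw
    have hs : words = coxWords ++ [spiderWord] := by decide +kernel
    rw [hs, List.mem_append, List.mem_singleton] at hw
    rcases hw with hw | rfl
    · rw [hC w hw]; exact one_mem _
    · exact Subgroup.mem_zpowers r
  obtain ⟨d, rfl⟩ := hi z hz
  exact ker_mem E' _ hle hw' hD i (hp ▸ hz)

/-- The action of the signs through an involution. -/
def signHom {A : Type} [Group A] (a : A) (h : a * a = 1) : ℤˣ →* A where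
  toFun u := if u = 1 then 1 else a
  map_one' := if_pos rfl
  map_mul' u v := by
    rcases Int.units_eq_one_or u with rfl | rfl <;> rcases Int.units_eq_one_or v with rfl | rfl <;> simp [h]

/-- The kernel of a stem extension of Fi24' is a quotient of the cyclic group of order three. -/
theorem bound (Δ : Type) [Group Δ] [Finite Δ] (σ : Δ →* Spor.Fi24') (h : Cfsg.IsStemExtension σ) :
    ∃ π : Multiplicative (ZMod 3) →* σ.ker, Function.Surjective π := by
  have hΔ := stem_perfect σ h fi24'_perfect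
  let c : Spor.Fi24' ≃* Spor.Fi24' := MulAut.conjNormal (g 0)
  have hcc : ∀ y, c (c y) = y := fun y => Subtype.ext (by
    show g 0 * (g 0 * (y : Spor.Fi24) * (g 0)⁻¹) * (g 0)⁻¹ = y
    simp [mul_assoc, g_inv, g_sq, ← mul_assoc (g 0) (g 0)])
  let P : Subgroup (Δ × Δ) := MonoidHom.eqLocus (σ.comp (MonoidHom.snd Δ Δ))
    (c.toMonoidHom.comp (σ.comp (MonoidHom.fst Δ Δ)))
  have memP : ∀ x : Δ × Δ, x ∈ P ↔ σ x.2 = c (σ x.1) := fun x => Iff.rfl
  let π1 : P →* Δ := (MonoidHom.fst Δ Δ).comp P.subtype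
  have hπ1 : Function.Surjective π1 := fun x => by
    obtain ⟨y, hy⟩ := h.1 (c (σ x))
    exact ⟨⟨(x, y), hy⟩, rfl⟩
  let q : P →* Spor.Fi24' := σ.comp π1
  have hqc : q.ker ≤ Subgroup.center P := by
    rintro ⟨⟨x, y⟩, hxy⟩ hk
    have hk' : σ x = 1 := hk
    have hy : σ y = 1 := by rw [(memP _).1 hxy, hk', map_one]
    refine Subgroup.mem_center_iff.2 fun u => Subtype.ext (Prod.ext ?_ ?_)
    · exact Subgroup.mem_center_iff.1 (h.2.1 hk') _
    · exact Subgroup.mem_center_iff.1 (h.2.1 hy) _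
  obtain ⟨hDq, hDp⟩ := derived_perfect q (h.1.comp hπ1) hqc fi24'_perfect
  let sw : P ≃* P :=
    { toFun := fun x => ⟨(x.1.2, x.1.1), by rw [memP, (memP _).1 x.2, hcc]⟩
      invFun := fun x => ⟨(x.1.2, x.1.1), by rw [memP, (memP _).1 x.2, hcc]⟩
      left_inv := fun _ => rfl
      right_inv := fun _ => rfl
      map_mul' := fun _ _ => rfl }
  have hsw : (commutator P).map sw.toMonoidHom = commutator P := by
    rw [commutator_def, Subgroup.map_commutator, Subgroup.map_top_of_surjective sw.toMonoidHom sw.surjective]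
  let D := ↥(commutator P)
  let β : MulAut D := (sw.subgroupMap (commutator P)).trans (MulEquiv.subgroupCongr hsw)
  have hβv : ∀ d : D, ((β d : D) : P) = sw d := fun d => rfl
  have hβ : β * β = 1 := MulEquiv.ext fun d => Subtype.ext (by
    show ((β (β d) : D) : P) = d
    rw [hβv, hβv]; rfl)
  let φ : ℤˣ →* MulAut D := signHom β hβ
  let qD : D →* Spor.Fi24' := q.comp (commutator P).subtype
  let f1 : D →* Spor.Fi24 := (commutator Spor.Fi24).subtype.comp qD
  let f2 : ℤˣ →* Spor.Fi24 := signHom (g 0) (g_sq 0)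
  have hqβ : ∀ d, qD (β d) = c (qD d) := fun d => by
    show σ ((β d : D) : P).1.1 = c (σ (d : P).1.1)
    rw [hβv]
    exact (memP _).1 (d : P).2
  have hcompat : ∀ u, f1.comp (φ u).toMonoidHom = (MulAut.conj (f2 u)).toMonoidHom.comp f1 := by
    intro u
    refine MonoidHom.ext fun d => ?_
    rcases Int.units_eq_one_or u with rfl | rfl
    · simp [φ, f2, signHom]
    · show ((qD (φ (-1) d) : Spor.Fi24') : Spor.Fi24) = f2 (-1) * ((qD d : Spor.Fi24') : Spor.Fi24) * (f2 (-1))⁻¹
      rw [show φ (-1) = β by simp [φ, signHom], show f2 (-1) = g 0 by simp [f2, signHom], hqβ]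
      rfl
  let Γ := SemidirectProduct D ℤˣ φ
  have : Finite Γ := Finite.of_equiv (D × ℤˣ) SemidirectProduct.equivProd.symm
  let p : Γ →* Spor.Fi24 := SemidirectProduct.lift f1 f2 hcompat
  have hsgn : ∀ x : Γ, sgn (p x) = x.right := fun x => by
    have e : p x = f1 x.left * f2 x.right := rfl
    rw [e, map_mul, show sgn (f1 x.left) = 1 from sgn_commutator (qD x.left).2, one_mul]
    rcases Int.units_eq_one_or x.right with h' | h' <;> rw [h'] <;> simp [f2, signHom, sgn_g]
  have hker : ∀ z : Γ, p z = 1 → ∃ e : D, SemidirectProduct.inl e = z ∧ qD e = 1 := by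
    intro z hz
    have hr : z.right = 1 := by rw [← hsgn, hz, map_one]
    have e : p z = f1 z.left * f2 z.right := rfl
    rw [e, hr, map_one, mul_one] at hz
    exact ⟨z.left, SemidirectProduct.ext (by simp) (by simp [hr]), Subtype.ext hz⟩
  have hcent : ∀ e : D, qD e = 1 → ∀ d : D, Commute d e := fun e he d =>
    Subtype.ext (Subgroup.mem_center_iff.1 (hqc he) d)
  have heven : ∀ x z, sgn (p x) = 1 → p z = 1 → Commute x z := by
    intro x z hx hz
    obtain ⟨e, rfl, he⟩ := hker z hz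
    rw [hsgn] at hx
    have : x = SemidirectProduct.inl x.left := SemidirectProduct.ext (by simp) (by simp [hx])
    rw [this]
    exact (hcent e he x.left).map SemidirectProduct.inl
  have hqDc : qD.ker ≤ Subgroup.center D := fun e he =>
    Subgroup.mem_center_iff.2 fun d => (hcent e he d).eq
  have := Fi23.finite
  obtain ⟨s', hs'⟩ := exists_lift Fi23Mult.multiplier fi23_perfect qD hDq hqDc
    (phi.codRestrict _ phi_mem_commutator)
  let L : Γ := SemidirectProduct.inr (-1)
  have pinl : ∀ d, p (SemidirectProduct.inl d) = f1 d := fun d => SemidirectProduct.lift_inl f1 f2 hcompat d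
  have pL : p L = g 0 := by
    show p (SemidirectProduct.inr (-1)) = g 0
    rw [show p (SemidirectProduct.inr (-1)) = f2 (-1) from SemidirectProduct.lift_inr f1 f2 hcompat _]
    simp [f2, signHom]
  have Lsq : L * L = 1 := by rw [← map_mul]; simp
  have hβs : ∀ f, β (s' f) = s' f := by
    intro f
    have key : ∀ r, qD (β (s' r) * (s' r)⁻¹) = 1 := fun r => by
      rw [map_mul, map_inv, hqβ, hs', mul_inv_eq_one]
      refine Subtype.ext ?_
      show g 0 * phi r * (g 0)⁻¹ = phi r
      rw [(l_comm_phi r).eq, mul_inv_cancel_right]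
    let F : Spor.Fi23 →* D := MonoidHom.mk' (fun r => β (s' r) * (s' r)⁻¹) fun a b => by
      have hc := hcent _ (key b) (β (s' a))
      calc β (s' (a * b)) * (s' (a * b))⁻¹ = β (s' a) * (β (s' b) * (s' b)⁻¹) * (s' a)⁻¹ := by
            rw [map_mul, map_mul, mul_inv_rev]; simp only [mul_assoc]
        _ = β (s' b) * (s' b)⁻¹ * (β (s' a) * (s' a)⁻¹) := by rw [hc.eq]; simp only [mul_assoc]
        _ = _ := (hcent _ (key a) _).eq
    have := hom_eq_one fi23_perfect F (fun a b => hcent _ (key b) _) f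
    exact mul_inv_eq_one.1 this
  have Lcomm : ∀ f, Commute L (SemidirectProduct.inl (s' f)) := fun f => by
    have := SemidirectProduct.inl_aut (φ := φ) (-1) (s' f)
    rw [show φ (-1) = β by simp [φ, signHom], hβs] at this
    have h' : SemidirectProduct.inl (s' f) * L = L * SemidirectProduct.inl (s' f) := by
      conv_lhs => rw [this]
      rw [map_inv, inv_mul_cancel_right]
    exact h'.symm
  have hb : g 0 * g 1 * g 0 * g 1 * g 0 * g 1 = 1 := g_braid (by decide +kernel)
  have hg1 : g 1 * g 0 ∈ commutator Spor.Fi24 := by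
    have e : g 1 * g 0 = ⁅g 0, g 1⁆ := by
      rw [commutatorElement_def, g_inv, g_inv]
      calc g 1 * g 0 = (g 0 * g 1 * g 0 * g 1 * g 0 * g 1) * (g 1 * g 0) := by rw [hb, one_mul]
        _ = g 0 * g 1 * g 0 * g 1 := by simp [mul_assoc, g_sq, ← mul_assoc (g 1) (g 1)]
    rw [e, commutator_def]
    exact Subgroup.commutator_mem_commutator (Subgroup.mem_top _) (Subgroup.mem_top _)
  obtain ⟨d1, hd1⟩ := hDq ⟨_, hg1⟩
  let k0 : Γ := SemidirectProduct.inl d1 * L
  have pk0 : p k0 = g 1 := by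
    rw [map_mul, pL]
    rw [pinl]
    show ((qD d1 : Spor.Fi24') : Spor.Fi24) * g 0 = g 1
    rw [show qD d1 = ⟨_, hg1⟩ from hd1]
    show g 1 * g 0 * g 0 = g 1
    rw [mul_assoc, g_sq, mul_one]
  let E : Ext Γ :=
    { p := p
      s := (SemidirectProduct.inl : D →* Γ).comp s'
      L := L
      K := L * k0 * L * k0⁻¹ * L
      p_s := fun f => by
        rw [MonoidHom.comp_apply, pinl]
        show ((qD (s' f) : Spor.Fi24') : Spor.Fi24) = phi f
        rw [hs']; rfl
      p_L := pL
      p_K := by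
        rw [map_mul, map_mul, map_mul, map_mul, map_inv, pL, pk0, g_inv]
        exact (eq_inv_of_mul_eq_one_left hb).trans (g_inv 1)
      L_sq := Lsq
      K_sq := by
        calc L * k0 * L * k0⁻¹ * L * (L * k0 * L * k0⁻¹ * L)
            = L * k0 * L * (k0⁻¹ * (L * L) * k0) * L * k0⁻¹ * L := by simp only [mul_assoc]
          _ = L * k0 * (L * L) * k0⁻¹ * L := by
            rw [Lsq, mul_one, inv_mul_cancel, mul_one, mul_assoc (L * k0) L L, Lsq]
          _ = 1 := by rw [Lsq, mul_one, mul_inv_cancel_right, Lsq]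
      L_comm := Lcomm
      even_comm := heven }
  obtain ⟨r, hr, hr3, hall⟩ := ker_three E ⟨k0, pk0, rfl⟩ hDp (SemidirectProduct.inl : D →* Γ)
    fun z hz => let ⟨e, he, _⟩ := hker z hz; ⟨e, he⟩
  obtain ⟨er, rfl, her⟩ := hker r hr
  let pr : D →* Δ := π1.comp (commutator P).subtype
  have hpr : ∀ z : Δ, ∃ d : D, pr d = z := fun z => by
    have : z ∈ (commutator P).map π1 := by
      rw [commutator_def, Subgroup.map_commutator, Subgroup.map_top_of_surjective π1 hπ1, ← commutator_def, hΔ]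
      exact Subgroup.mem_top z
    obtain ⟨d, hd, e⟩ := this
    exact ⟨⟨d, hd⟩, e⟩
  let t : σ.ker := ⟨pr er, her⟩
  have ht : t ^ 3 = 1 := Subtype.ext (by
    show pr er ^ 3 = 1
    rw [← map_pow, SemidirectProduct.inl_injective (φ := φ) (by rw [map_pow, hr3, map_one] : SemidirectProduct.inl
      (er ^ 3) = SemidirectProduct.inl (φ := φ) 1), map_one])
  refine ⟨MonoidHom.mk' (fun k => t ^ k.toAdd.val) fun a b => ?_, fun z => ?_⟩
  · rw [← pow_add, toAdd_mul, ZMod.val_add]
    conv_rhs => rw [← Nat.div_add_mod (a.toAdd.val + b.toAdd.val) 3, pow_add, pow_mul, ht, one_pow, one_mul]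
  · obtain ⟨d, hd⟩ := hpr z
    have hpd : p (SemidirectProduct.inl d) = 1 := by
      rw [pinl]
      show ((σ (pr d) : Spor.Fi24') : Spor.Fi24) = 1
      rw [hd, MonoidHom.mem_ker.1 z.2]; rfl
    obtain ⟨k, hk⟩ := Subgroup.mem_zpowers_iff.1 (hall _ hpd)
    rw [← map_zpow] at hk
    have hk' := SemidirectProduct.inl_injective hk
    refine ⟨Multiplicative.ofAdd (k : ZMod 3), ?_⟩
    have e : t ^ k = z := Subtype.ext (by
      show (pr er) ^ k = (z : Δ)
      rw [← map_zpow, hk', hd])
    show t ^ ((k : ZMod 3)).val = z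
    have hv : (((k : ZMod 3)).val : ℤ) = k % ((3 : ℕ) : ℤ) := ZMod.val_intCast k
    rw [← e, ← zpow_natCast, hv]
    conv_rhs => rw [← Int.emod_add_mul_ediv k ((3 : ℕ) : ℤ), zpow_add, zpow_mul, zpow_natCast, ht, one_zpow, mul_one]

end Cfsg.Agent.Spor.Cos.Fi24Mult
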