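import Cfsg.Agent.Lib.Spor.Cos.Fi24Mult.Defs
import Cfsg.Agent.Lib.Spor.Cos.Fi24Mult.Data.E7Moves

/-!
In a group where twelve involutions satisfy the relators of the diagram Y₅₄₂, the ninth power of the Coxeter
element of E₇ commutes with the seven involutions of E₇.
-/

set_option autoImplicit false
set_option maxRecDepth 100000

namespace Cfsg.Agent.Spor.Cos.Fi24Mult

variable {G : Type*} [Group G]

/-- Twelve involutions with the relators of the diagram. -/
structure Cox12 (g : ℕ → G) : Prop where
  sq : ∀ s, g s * g s = 1
  cox : ∀ s < 12, ∀ t < 12, (g s * g t) ^ lab s t = 1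

/-- One braid move at a place, if there is one. -/
def move (w : List ℕ) (p : ℕ) : List ℕ :=
  match w.drop p with
  | a :: b :: r =>
    if a < 12 ∧ b < 12 then
      if lab a b = 2 then w.take p ++ b :: a :: r
      else match r with
        | c :: r' => if lab a b = 3 ∧ c = a then w.take p ++ b :: a :: b :: r' else w
        | [] => w
    else w
  | _ => w

/-- The Coxeter word of E₇. -/
def vW : List ℕ := [2, 3, 4, 5, 6, 7, 10]

/-- The moves lead from the ninth power to the same word before and behind the letter. -/
def chkMoves : Bool :=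
  e7Moves.all fun d =>
    let w := (List.replicate 9 vW).flatten
    let r := d.2.2.foldl move w
    (d.2.1.foldl move w == d.1 :: r.dropLast) && (r == r.dropLast ++ [d.1])

theorem chkMoves_ok : chkMoves = true := by decide +kernel

theorem e7Moves_letters : e7Moves.map Prod.fst = vW := by decide +kernel

namespace Cox12

variable {g : ℕ → G} (C : Cox12 g)
include C

theorem inv_eq (s : ℕ) : (g s)⁻¹ = g s := inv_eq_of_mul_eq_one_left (C.sq s)

theorem comm {s t : ℕ} (hs : s < 12) (ht : t < 12) (h : lab s t = 2) : g s * g t = g t * g s := by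
  have e := C.cox s hs t ht
  rw [h, pow_two] at e
  rw [eq_inv_of_mul_eq_one_left e, mul_inv_rev, C.inv_eq, C.inv_eq]

theorem braid {s t : ℕ} (hs : s < 12) (ht : t < 12) (h : lab s t = 3) :
    g s * g t * g s = g t * g s * g t := by
  have e := C.cox s hs t ht
  rw [h, pow_succ, pow_two] at e
  have e' : (g s * g t * g s) * (g t * g s * g t) = 1 := by simpa only [mul_assoc] using e
  rw [eq_inv_of_mul_eq_one_left e']
  simp only [mul_inv_rev, C.inv_eq, mul_assoc]

theorem move_ev (w : List ℕ) (p : ℕ) : ev g (move w p) = ev g w := by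
  have hw : ev g w = ev g (w.take p) * ev g (w.drop p) := by rw [← ev_append, List.take_append_drop]
  unfold move
  split
  case h_2 => rfl
  case h_1 a b r hd =>
    split_ifs with hab h2
    · rw [hw, hd, ev_append]
      simp only [ev, ← mul_assoc]
      rw [mul_assoc (ev g (w.take p)), mul_assoc (ev g (w.take p)) (g a), C.comm hab.1 hab.2 h2]
    · split
      · rename_i c r'
        split_ifs with h3
        · obtain ⟨h3, rfl⟩ := h3
          rw [hw, hd, ev_append]
          simp only [ev]
          congr 1
          calc g b * (g c * (g b * ev g r')) = g b * g c * g b * ev g r' := by simp only [mul_assoc]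
            _ = _ := by rw [← C.braid hab.1 hab.2 h3]; simp only [mul_assoc]
        · rfl
      · rfl
    · rfl

theorem moves_ev : ∀ (L : List ℕ) (w : List ℕ), ev g (L.foldl move w) = ev g w
  | [], _ => rfl
  | p :: L, w => by rw [List.foldl_cons, moves_ev L, C.move_ev]

/-- The ninth power of the Coxeter element commutes with the letters. -/
theorem vW_pow_comm {s : ℕ} (hs : s ∈ vW) : Commute (g s) (ev g vW ^ 9) := by
  rw [← e7Moves_letters, List.mem_map] at hs
  obtain ⟨d, hd, rfl⟩ := hs
  have h := List.all_eq_true.1 chkMoves_ok d hd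
  simp only [Bool.and_eq_true, beq_iff_eq] at h
  have e1 := C.moves_ev d.2.1 (List.replicate 9 vW).flatten
  have e2 := C.moves_ev d.2.2 (List.replicate 9 vW).flatten
  rw [h.1, ev, ev_power] at e1
  rw [h.2, ev_append, ev_power] at e2
  simp only [ev, mul_one] at e2
  show g d.1 * _ = _ * g d.1
  conv_lhs => rw [← e1, ← mul_assoc, C.sq, one_mul]
  conv_rhs => rw [← e2, mul_assoc, C.sq, mul_one]

end Cox12

end Cfsg.Agent.Spor.Cos.Fi24Mult
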