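import Cfsg.Agent.Lib.Spor.Cos.Fi24Mult.Ext

/-!
Extensions with central kernel: the class of l and that of the other generators have the same lifts, as the relator
expressing l moves to the centraliser of l along the line of ten generators from l to j.
-/

set_option autoImplicit false
set_option maxRecDepth 100000
set_option maxHeartbeats 4000000

open Cfsg Cfsg.Spor

namespace Cfsg.Agent.Spor.Cos.Fi24Mult

open Fi24Up

/-- The Coxeter relators. -/
def coxUWords : List (List ℕ) := coxWords.dropLast

/-- The relator expressing l. -/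
def eWord : List ℕ := coxWords.getLastD []

/-- The generators twisted by a central element off l and k. -/
def twist {G : Type} [Group G] (T : ℕ → G) (e : G) (s : ℕ) : G := if s < 2 then T s else T s * e

theorem ev_twist {G : Type} [Group G] (T : ℕ → G) {e : G} (he : ∀ x, Commute x e) :
    ∀ w : List ℕ, ev (twist T e) w = ev T w * e ^ (w.countP fun s => !Nat.blt s 2)
  | [] => by simp [ev]
  | s :: w => by
    show twist T e s * ev (twist T e) w = T s * ev T w * _
    rw [ev_twist T he w, twist]
    split_ifs with h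
    · rw [List.countP_cons_of_neg (by simp [h]), mul_assoc]
    · rw [List.countP_cons_of_pos (by
        simp only [Bool.not_eq_true', ← Bool.not_eq_true, Nat.blt_eq]; omega), pow_succ', mul_assoc (T s), ← mul_assoc e,
        ← (he (ev T w)).eq]
      simp only [mul_assoc]

theorem comm_of_sq {G : Type} [Group G] {a b : G} (ha : a * a = 1) (hb : b * b = 1)
    (h : a * (b * (a * b)) = 1) : Commute a b := by
  calc a * b = a * b * (a * a) := by rw [ha, mul_one]
    _ = a * b * a * (b * b) * a := by rw [hb]; simp only [mul_assoc, one_mul]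
    _ = (a * (b * (a * b))) * (b * a) := by simp only [mul_assoc]
    _ = b * a := by rw [h, one_mul]

theorem braid_of_six {G : Type} [Group G] {a b : G} (ha : a * a = 1) (hb : b * b = 1)
    (h : a * (b * (a * (b * (a * b)))) = 1) : a * b * a = b * a * b := by
  calc a * b * a = a * b * a * ((b * ((a * a) * b))) := by simp [ha, hb]
    _ = a * b * a * b * a * (b * b) * a * b := by rw [hb]; simp only [mul_assoc, one_mul]
    _ = (a * (b * (a * (b * (a * b))))) * (b * a * b) := by simp only [mul_assoc]
    _ = b * a * b := by rw [h, one_mul]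

namespace Ext

variable {Γ : Type} [Group Γ] (E : Ext Γ)

theorem central_cox (hcen : ∀ x z, E.p z = 1 → Commute x z)
    (hK : ∃ k0, E.p k0 = g 1 ∧ E.K = E.L * k0 * E.L * k0⁻¹ * E.L) : E.Cox := by
  obtain ⟨k0, hk0, hK⟩ := hK
  have hLi : E.L⁻¹ = E.L := inv_eq_of_mul_eq_one_left E.L_sq
  have h01 : (E.L * E.K) ^ 3 = 1 := by
    set z := E.K⁻¹ * k0 with hz
    have hpz : E.p z = 1 := by rw [hz, map_mul, map_inv, E.p_K, hk0, inv_mul_cancel]
    have e : k0 = E.K * z := by rw [hz, mul_inv_cancel_left]
    have e2 : E.K = E.L * E.K * E.L * E.K * E.L := by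
      conv_lhs => rw [hK, e, mul_inv_rev, inv_eq_of_mul_eq_one_left E.K_sq]
      calc E.L * (E.K * z) * E.L * (z⁻¹ * E.K) * E.L
          = E.L * E.K * (z * E.L) * z⁻¹ * E.K * E.L := by simp only [mul_assoc]
        _ = E.L * E.K * (E.L * z) * z⁻¹ * E.K * E.L := by rw [(hcen E.L z hpz).eq]
        _ = _ := by simp [mul_assoc]
    calc (E.L * E.K) ^ 3 = (E.L * E.K * E.L * E.K * E.L) * E.K := by simp [pow_succ, mul_assoc]
      _ = 1 := by rw [← e2, E.K_sq]
  have h1 : ∀ s, 3 ≤ s → s < 12 → Commute E.K (E.T s) := by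
    intro s hs3 hs
    set Y := E.L * k0 with hY
    have eK : E.K = Y * E.L * Y⁻¹ := by rw [hK, hY, mul_inv_rev, hLi]; simp only [mul_assoc]
    set z := (E.T s)⁻¹ * (Y⁻¹ * E.T s * Y) with hz
    have hpz : E.p z = 1 := by
      have c0 : g 0 * g s = g s * g 0 := g_zero_comm (by omega) hs
      have c1 : g 1 * g s = g s * g 1 := by
        interval_cases s <;> exact g_comm (by decide +kernel)
      rw [hz, hY]
      simp only [map_mul, map_inv, E.p_T, E.p_L, hk0]
      rw [mul_assoc _ (g s) (g 0 * g 1), ← mul_assoc (g s) (g 0), ← c0, mul_assoc (g 0), ← c1, ← mul_assoc (g 0),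
        inv_mul_cancel_left, inv_mul_cancel]
    have hc : Commute E.L (Y⁻¹ * E.T s * Y) := by
      rw [show Y⁻¹ * E.T s * Y = E.T s * z by rw [hz, mul_inv_cancel_left]]
      refine Commute.mul_right ?_ (hcen _ _ hpz)
      obtain ⟨u, rfl⟩ := Nat.exists_eq_add_of_le (show 2 ≤ s by omega)
      rw [show 2 + u = u + 2 by omega, E.T_add (by omega)]
      exact (E.L_comm _).mul_right (Commute.refl _)
    have := hc.map (MulAut.conj Y).toMonoidHom
    simpa [eK, mul_assoc] using this
  set e := (E.K * E.T 2) ^ 3 with he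
  have hpe : E.p e = 1 := by
    rw [he, map_pow, map_mul, E.p_K, E.p_T]
    have := g_braid (s := 1) (t := 2) (by decide +kernel)
    simpa [pow_succ, mul_assoc] using this
  have hec : ∀ x, Commute x e := fun x => hcen x e hpe
  have he2 : e * e = 1 := by
    have h1 : e⁻¹ = E.K * e * E.K⁻¹ := by
      rw [he, ← inv_pow, ← conj_pow, mul_inv_rev, inv_eq_of_mul_eq_one_left E.K_sq, E.T_inv,
        ← mul_assoc E.K E.K, E.K_sq, one_mul]
    rw [(hec E.K).eq, mul_inv_cancel_right] at h1
    nth_rewrite 1 [← h1]
    exact inv_mul_cancel e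
  have hepow : ∀ n, n % 2 = 0 → e ^ n = 1 := fun n hn => by
    rw [← Nat.div_add_mod n 2, hn, Nat.add_zero, pow_mul, pow_two, he2, one_pow]
  set U := twist E.T e with hU
  have hUsq : ∀ s, U s * U s = 1 := fun s => by
    rw [hU, twist]
    split_ifs
    · exact E.T_sq s
    · rw [mul_assoc, ← mul_assoc e, ← (hec (E.T s)).eq, mul_assoc, he2, mul_one, E.T_sq]
  have hUw : ∀ w ∈ coxUWords, ev U w = 1 := by
    intro w hw
    have hc : (coxUWords.all fun w => (okH w && Nat.beq ((w.countP fun s => !Nat.blt s 2) % 2) 0) ||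
        w == [0, 1, 0, 1, 0, 1] || w == [1, 2, 1, 2, 1, 2] ||
        (List.range 9).any fun s => w == [1, s + 3, 1, s + 3]) = true := by decide +kernel
    have h := List.all_eq_true.1 hc w hw
    simp only [Bool.or_eq_true, Bool.and_eq_true, beq_iff_eq, List.any_eq_true, List.mem_range, Nat.beq_eq] at h
    rw [hU, ev_twist E.T hec]
    rcases h with ((⟨h, hn⟩ | rfl) | rfl) | ⟨s, hs, rfl⟩
    · rw [E.exact_H h (g_words w (List.dropLast_subset _ (List.dropLast_subset _ hw))), one_mul, hepow _ hn]
    · rw [show ([0, 1, 0, 1, 0, 1] : List ℕ).countP (fun s => !Nat.blt s 2) = 0 from by decide, pow_zero, mul_one]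
      simpa [ev, E.T_zero, E.T_one, pow_succ, mul_assoc] using h01
    · rw [show ([1, 2, 1, 2, 1, 2] : List ℕ).countP (fun s => !Nat.blt s 2) = 3 from by decide,
        show ev E.T [1, 2, 1, 2, 1, 2] = e by simp [he, ev, E.T_one, pow_succ, mul_assoc],
        ← pow_succ', hepow _ (by norm_num)]
    · have hh := (h1 (s + 3) (by omega) (by omega)).eq
      have e1 : ev E.T [1, s + 3, 1, s + 3] = 1 := by
        simp only [ev, mul_one, E.T_one]
        rw [← mul_assoc (E.T (s + 3)), ← hh, mul_assoc E.K, E.T_sq, mul_one, E.K_sq]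
      rw [e1, one_mul, hepow]
      interval_cases s <;> decide
  have hUd : ∀ {w}, derivedOk 12 coxUWords w = true → ev U w = 1 := fun h => ev_derived (fun s _ => hUsq s) hUw h
  have hfar : ∀ {s t}, derivedOk 12 coxUWords [s, t, s, t] = true → Commute (U s) (U t) := fun h => by
    have := hUd h
    simp only [ev, mul_one] at this
    exact comm_of_sq (hUsq _) (hUsq _) this
  have hadj : ∀ {s t}, derivedOk 12 coxUWords [s, t, s, t, s, t] = true → U s * U t * U s = U t * U s * U t :=
    fun h => by
      have := hUd h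
      simp only [ev, mul_one] at this
      exact braid_of_six (hUsq _) (hUsq _) this
  set C := ev U (List.range 10) with hC
  have hfarev : ∀ (i : ℕ) (w : List ℕ), (w.all fun t => derivedOk 12 coxUWords [i, t, i, t]) = true →
      Commute (U i) (ev U w) := fun i w => by
    induction w with
    | nil => exact fun _ => Commute.one_right _
    | cons t w ih =>
      intro h
      simp only [List.all_cons, Bool.and_eq_true] at h
      exact (hfar h.1).mul_right (ih h.2)
  have step : ∀ i < 9, C * U i = U (i + 1) * C := by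
    intro i hi
    set a := ev U ((List.range 10).take i)
    set b := ev U ((List.range 10).drop (i + 2))
    have eC : C = a * (U i * (U (i + 1) * b)) := by
      have : List.range 10 = (List.range 10).take i ++ i :: (i + 1) :: (List.range 10).drop (i + 2) := by
        interval_cases i <;> rfl
      rw [hC, this, ev_append]
      rfl
    have cb : Commute (U i) b := hfarev _ _ (by interval_cases i <;> decide +kernel)
    have ca : Commute (U (i + 1)) a := hfarev _ _ (by interval_cases i <;> decide +kernel)
    have br := hadj (s := i) (t := i + 1) (by interval_cases i <;> decide +kernel)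
    calc C * U i = a * (U i * (U (i + 1) * (b * U i))) := by rw [eC]; simp only [mul_assoc]
      _ = a * ((U i * U (i + 1) * U i) * b) := by rw [← cb.eq]; simp only [mul_assoc]
      _ = (a * U (i + 1)) * (U i * (U (i + 1) * b)) := by rw [br]; simp only [mul_assoc]
      _ = U (i + 1) * C := by rw [← ca.eq, eC]; simp only [mul_assoc]
  have stepev : ∀ w : List ℕ, (∀ s ∈ w, s < 9) → C * ev U w = ev U (w.map (· + 1)) * C := fun w => by
    induction w with
    | nil => simp [ev]
    | cons t w ih =>
      intro h
      simp only [List.map_cons, ev]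
      rw [← mul_assoc, step t (h t (by simp)), mul_assoc, ih fun s hs => h s (List.mem_cons_of_mem _ hs), mul_assoc]
  set Y := C * C with hY
  have y9 : Y * U 9 * Y⁻¹ = U 0 := by
    have e1 : C * U 9 = ev U (List.range 9) := by
      rw [hC, show List.range 10 = List.range 9 ++ [9] from rfl, ev_append, mul_assoc]
      simp [ev, hUsq]
    have e2 : C = U 0 * ev U ((List.range 9).map (· + 1)) := by
      rw [hC, show List.range 10 = 0 :: (List.range 9).map (· + 1) from rfl]; rfl
    rw [mul_inv_eq_iff_eq_mul, hY, mul_assoc, e1, stepev _ fun s hs => List.mem_range.1 hs]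
    conv_rhs => rw [← mul_assoc, e2, ← mul_assoc (U 0) (U 0), hUsq, one_mul, ← e2]
  have ylow : ∀ i < 8, Y * U i * Y⁻¹ = U (i + 2) := fun i hi => by
    rw [mul_inv_eq_iff_eq_mul, hY, mul_assoc, step i (by omega), ← mul_assoc, step (i + 1) (by omega), mul_assoc]
  set V := fun s => Y * U s * Y⁻¹ with hV
  have pU : ∀ s, E.p (U s) = g s := fun s => by
    rw [hU, twist]
    split_ifs
    · exact E.p_T s
    · rw [map_mul, hpe, mul_one, E.p_T]
  have base : ∀ t ∈ eWord, ∃ c ∈ E.C0, ∃ z, E.p z = 1 ∧ V t = c * z := by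
    intro t ht
    have hct : Commute (g 9) (g t) := by
      have hc : (eWord.all fun t => derivedOk 12 words [9, t, 9, t]) = true := by decide +kernel
      exact g_comm (List.all_eq_true.1 hc t ht)
    have hp : Commute (g 0) (E.p (V t)) := by
      have e0 : g 0 = E.p Y * g 9 * (E.p Y)⁻¹ := by
        rw [← pU 9, ← map_inv, ← map_mul, ← map_mul, y9, pU]
      rw [e0, hV]
      simp only [map_mul, map_inv, pU]
      exact hct.map (MulAut.conj (E.p Y)).toMonoidHom
    obtain ⟨f, n, hfn⟩ := exists_phi_eq (mem_HH_of_comm hp)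
    refine ⟨E.s f * E.L ^ n, ⟨f, n, rfl⟩, (E.s f * E.L ^ n)⁻¹ * V t, ?_, (mul_inv_cancel_left _ _).symm⟩
    rw [map_mul, map_inv, map_mul, map_pow, E.p_s, E.p_L, ← hfn, inv_mul_cancel]
  let W : ℕ → Prop := fun t => ∃ c ∈ E.C0, V t = c * e
  have bW : ∀ {i}, i < 8 → ((okH [i + 2]) = true) → W i := fun {i} hi ho => by
    refine ⟨E.T (i + 2), by simpa [ev] using E.mem_C0 ho, ?_⟩
    show Y * U i * Y⁻¹ = _
    rw [ylow i hi, hU, twist, if_neg (by omega)]
  have chain : ∀ {s t}, derivedOk 12 coxUWords [s, t, s, t, s, t] = true → t ∈ eWord → W s → W t := by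
    rintro s t hd ht ⟨c, hc, es⟩
    obtain ⟨c', hc', z, hz, et⟩ := base t ht
    have hzc : ∀ x, Commute x z := fun x => hcen x z hz
    have hV2 : V t * V t = 1 := by
      show Y * U t * Y⁻¹ * (Y * U t * Y⁻¹) = 1
      simp [mul_assoc, ← mul_assoc (U t) (U t), hUsq]
    have hz2 : z ^ 2 = 1 := by
      rw [et, ← pow_two, (hzc c').mul_pow] at hV2
      have : c' ^ 2 = 1 := E.eq_one_of_C0 (pow_mem hc' 2) (by
        have := congrArg E.p hV2
        rwa [map_mul, map_pow E.p z, hz, one_pow, mul_one, map_one] at this)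
      rwa [this, one_mul] at hV2
    have h3 : (V s * V t) ^ 3 = 1 := by
      have := hUd hd
      simp only [ev, mul_one] at this
      have h : (U s * U t) ^ 3 = 1 := by simpa [pow_succ, mul_assoc] using this
      rw [show V s * V t = Y * (U s * U t) * Y⁻¹ by simp [hV, mul_assoc], conj_pow, h, mul_one, mul_inv_cancel]
    have hm : V s * V t = c * c' * (e * z) := by
      rw [es, et, mul_assoc c, ← mul_assoc e, ← (hec c').eq]; simp only [mul_assoc]
    have hezc : ∀ x, Commute x (e * z) := fun x => (hec x).mul_right (hzc x)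
    rw [hm, (hezc _).mul_pow] at h3
    have : (c * c') ^ 3 = 1 := E.eq_one_of_C0 (pow_mem (mul_mem hc hc') 3) (by
      have := congrArg E.p h3
      rwa [map_mul, map_pow E.p (e * z), map_mul E.p e, hpe, hz, one_mul, one_pow, mul_one, map_one] at this)
    rw [this, one_mul] at h3
    have h2 : (e * z) ^ 2 = 1 := by rw [(hzc e).mul_pow, pow_two e, he2, one_mul, hz2]
    have h1' : e * z = 1 := by rw [pow_succ, h2, one_mul] at h3; exact h3
    exact ⟨c', hc', by rw [et, eq_inv_of_mul_eq_one_right h1', inv_eq_of_mul_eq_one_left he2]⟩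
  have w2 : W 2 := bW (by omega) (by decide +kernel)
  have w3 : W 3 := chain (s := 2) (by decide +kernel) (by decide +kernel) w2
  have w4 : W 4 := chain (s := 3) (by decide +kernel) (by decide +kernel) w3
  have w5 : W 5 := chain (s := 4) (by decide +kernel) (by decide +kernel) w4
  have w6 : W 6 := chain (s := 5) (by decide +kernel) (by decide +kernel) w5
  have w7 : W 7 := chain (s := 6) (by decide +kernel) (by decide +kernel) w6
  have w10 : W 10 := chain (s := 5) (by decide +kernel) (by decide +kernel) w5
  have w0 : W 0 := bW (by omega) (by decide +kernel)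
  have hall : ∀ t ∈ eWord, W t := by
    intro t ht
    have hc : (eWord.all fun t => [0, 2, 3, 4, 5, 6, 7, 10].contains t) = true := by decide +kernel
    have := List.contains_iff_mem.1 (List.all_eq_true.1 hc t ht)
    simp only [List.mem_cons, List.not_mem_nil, or_false] at this
    rcases this with rfl | rfl | rfl | rfl | rfl | rfl | rfl | rfl <;> assumption
  have hprod : ∀ w : List ℕ, (∀ t ∈ w, W t) → ∃ c ∈ E.C0, ev V w = c * e ^ w.length := fun w => by
    induction w with
    | nil => exact fun _ => ⟨1, one_mem _, by simp [ev]⟩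
    | cons t w ih =>
      intro h
      obtain ⟨c, hc, et⟩ := h t (by simp)
      obtain ⟨c', hc', ew⟩ := ih fun s hs => h s (List.mem_cons_of_mem _ hs)
      refine ⟨c * c', mul_mem hc hc', ?_⟩
      rw [ev, et, ew, List.length_cons, pow_succ', mul_assoc c, ← mul_assoc e, ← (hec c').eq]
      simp only [mul_assoc]
  have hUe : ev U eWord = e := by
    have hm : eWord ∈ words := List.contains_iff_mem.1 (by decide +kernel)
    rw [hU, ev_twist E.T hec, E.exact_H (by decide +kernel) (g_words _ hm), one_mul,
      show (eWord.countP fun s => !Nat.blt s 2) = 2 * 31 + 1 by decide +kernel, pow_succ, hepow _ (by norm_num),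
      one_mul]
  have he1 : e = 1 := by
    obtain ⟨c, hc, ec⟩ := hprod eWord hall
    have hconj : ev V eWord = e := by
      rw [show ev V eWord = (MulAut.conj Y).toMonoidHom (ev U eWord) by rw [ev_map]; rfl, hUe]
      show Y * e * Y⁻¹ = e
      rw [(hec Y).eq, mul_inv_cancel_right]
    rw [hepow _ (by decide +kernel), mul_one, hconj] at ec
    exact E.eq_one_of_C0 (ec ▸ hc) hpe
  exact E.cox_of h01 (he ▸ he1) h1

theorem central_spider (hcen : ∀ x z, E.p z = 1 → Commute x z)
    (hK : ∃ k0, E.p k0 = g 1 ∧ E.K = E.L * k0 * E.L * k0⁻¹ * E.L) :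
    ∀ w ∈ words, ev E.T w = 1 := by
  have hC := E.central_cox hcen hK
  intro w hw
  have hs : words = coxWords ++ [spiderWord] := by decide +kernel
  rw [hs, List.mem_append, List.mem_singleton] at hw
  rcases hw with hw | rfl
  · exact hC w hw
  · exact hC.spider_one hcen

end Ext

end Cfsg.Agent.Spor.Cos.Fi24Mult
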