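import Cfsg.Agent.Lib.Spor.Cos.Fi24Mult.Chk.X0
import Cfsg.Agent.Lib.Spor.Cos.Fi24Mult.Chk.X1
import Cfsg.Agent.Lib.Spor.Cos.Fi24Mult.Chk.X2
import Cfsg.Agent.Lib.Spor.Cos.Fi24Mult.Chk.X3
import Cfsg.Agent.Lib.Spor.Cos.Fi24Mult.Chk.X4
import Cfsg.Agent.Lib.Spor.Cos.Fi24Mult.Chk.X5
import Cfsg.Agent.Lib.Spor.Cos.Fi24Mult.Chk.X6
import Cfsg.Agent.Lib.Spor.Cos.Fi24Mult.Chk.X7
import Cfsg.Agent.Lib.Spor.Cos.Act

/-! The relators on the three sheets, at all points. -/

set_option autoImplicit false
set_option maxRecDepth 100000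

namespace Cfsg.Agent.Spor.Cos.Fi24Mult

theorem chkX_all : ∀ i < 306936, chkX i = true :=
  of_blocks (size := 8192) (b := 38) (by decide) (by decide) fun j hj => by
    interval_cases j
    · exact chkX_blk0
    · exact chkX_blk1
    · exact chkX_blk2
    · exact chkX_blk3
    · exact chkX_blk4
    · exact chkX_blk5
    · exact chkX_blk6
    · exact chkX_blk7
    · exact chkX_blk8
    · exact chkX_blk9
    · exact chkX_blk10
    · exact chkX_blk11
    · exact chkX_blk12
    · exact chkX_blk13
    · exact chkX_blk14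
    · exact chkX_blk15
    · exact chkX_blk16
    · exact chkX_blk17
    · exact chkX_blk18
    · exact chkX_blk19
    · exact chkX_blk20
    · exact chkX_blk21
    · exact chkX_blk22
    · exact chkX_blk23
    · exact chkX_blk24
    · exact chkX_blk25
    · exact chkX_blk26
    · exact chkX_blk27
    · exact chkX_blk28
    · exact chkX_blk29
    · exact chkX_blk30
    · exact chkX_blk31
    · exact chkX_blk32
    · exact chkX_blk33
    · exact chkX_blk34
    · exact chkX_blk35
    · exact chkX_blk36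
    · exact chkX_blk37

end Cfsg.Agent.Spor.Cos.Fi24Mult
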