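import Cfsg.Agent.Lib.Spor.Cos.Fi24Up.Ident
import Cfsg.Agent.Lib.Spor.Cos.Fi24Mult.Braid
import Cfsg.Agent.Lib.Fus.Fi24Model.Stab
import Cfsg.Agent.Lib.Fus.Fi24Model.Presented

/-!
In a group over the model of Fi₂₄ whose twelve involutions satisfy the relators of Y₅₄₂ and E₇, the word along
the relator of length 238, carried to the coset of k, commutes with the even part of the stabiliser of k.
-/

set_option autoImplicit false
set_option maxRecDepth 100000
set_option maxHeartbeats 4000000
set_option linter.unusedSectionVars false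

namespace Cfsg.Agent.Spor.Cos.Fi24Mult

open Cfsg.Agent.Spor.Cos.Fi24Up (up down okH isOne evenUp hLetters kLetters subLetters qSpider qWords qPres qg
  qSpider_eq_one lt_of_okH down_lt loops sub rho kap chkSteps pathWord pathEnd pathSteps pathStart extraK)
open Cfsg.Agent.Fus.Fi24Model (gen12 im12 go12 A0 Xp inc sgn cpt)
open Cfsg.Agent.Fus.M23U.Triality (NB HB ge ge_letter norm_NB)

/-- The relators of the diagram and of E₇ as words. -/
def base13 : List (List ℕ) :=
  e7W :: (List.range 12).flatMap fun s => (List.range 12).map fun t => pairW s t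

/-- Twelve involutions with the relators of Y₅₄₂ and E₇, over the model. -/
structure Over {G : Type*} [Group G] (g : ℕ → G) (q : G →* Equiv.Perm Xp) : Prop extends Cox12 g where
  e7 : ev g e7W = 1
  out : g 12 = 1
  proj : ∀ s < 12, q (g s) = gen12 s

/-- The word along the relator of length 238, carried to the coset of k. -/
def fW : List ℕ := pathStart ++ pathWord pathSteps ++ pathStart.reverse

variable {G : Type*} [Group G]

/-- A generator of Fi₂₃ as a product with the first of the twelve. -/
noncomputable def sigma (g : ℕ → G) (s : ℕ) : G := if s < 10 then g (s + 2) * g 0 else 1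

/-- The subgroup of the letters other than k. -/
noncomputable def HS (g : ℕ → G) : Subgroup G := val g (singles hLetters)

variable {g : ℕ → G} {q : G →* Equiv.Perm Xp}

namespace Over

variable (O : Over g q)
include O

theorem words_one : ∀ w ∈ base13, ev g w = 1 := by
  intro w hw
  simp only [base13, List.mem_cons, List.mem_flatMap, List.mem_map, List.mem_range] at hw
  rcases hw with rfl | ⟨s, hs, t, ht, rfl⟩
  · exact O.e7
  · rw [pairW, ev_power]
    simpa [ev] using O.cox s hs t ht

theorem derived {w : List ℕ} (h : derivedOk 12 base13 w = true) : ev g w = 1 :=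
  ev_derived (fun s _ => O.sq s) O.words_one h

theorem zero_comm {s : ℕ} (h2 : 2 ≤ s) (hs : s < 12) : Commute (g 0) (g s) :=
  O.toCox12.comm (by norm_num) hs (by interval_cases s <;> rfl)

theorem spider : ev g (qSpider.map fun i => subLetters.getD i 12) = 1 := by
  have hb : ∀ w ∈ qWords, ev (fun i => g (subLetters.getD i 12)) w = 1 := fun w hw =>
    (ev_reletter subLetters 12 w).trans (hbase_of O.sq O.words_one (n := 12) (by decide +kernel) w hw)
  obtain ⟨π, hπ⟩ := qPres.exists_hom (fun i => g (subLetters.getD i 12)) (fun i => O.sq _) hb (fun s hs => by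
    have : subLetters.length ≤ s := hs
    show g (subLetters.getD s 12) = 1
    rw [List.getD_eq_getElem?_getD, List.getElem?_eq_none this]
    exact O.out)
  have := congrArg π qSpider_eq_one
  rw [map_one, ev_map] at this
  rw [← ev_reletter subLetters 12]
  rwa [show (fun s => π (qg s)) = fun i => g (subLetters.getD i 12) from funext hπ] at this

theorem sigma_sq (s : ℕ) : sigma g s * sigma g s = 1 := by
  unfold sigma
  split_ifs with h
  · rw [mul_assoc, ← mul_assoc (g 0), (O.zero_comm (by omega) (by omega)).eq, mul_assoc, O.sq, mul_one, O.sq]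
  · exact one_mul _

theorem ev_sigma : ∀ w : List ℕ, (∀ s ∈ w, s < 10) → ev (sigma g) w = ev g (up w) * g 0 ^ w.length
  | [], _ => by simp [ev, up]
  | s :: w, h => by
    have hs := h s (List.mem_cons_self ..)
    have hc : Commute (g 0) (ev g (up w)) := by
      have : ∀ v : List ℕ, (∀ t ∈ v, 2 ≤ t ∧ t < 12) → Commute (g 0) (ev g v) := by
        intro v
        induction v with
        | nil => exact fun _ => Commute.one_right _
        | cons t v ih =>
          exact fun hv => (Commute.mul_right (O.zero_comm (hv t (by simp)).1 (hv t (by simp)).2)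
            (ih fun u hu => hv u (by simp [hu])))
      refine this _ fun t ht => ?_
      obtain ⟨u, hu, rfl⟩ := List.mem_map.1 ht
      have := h u (List.mem_cons_of_mem _ hu)
      omega
    show sigma g s * ev (sigma g) w = g (s + 2) * ev g (up w) * g 0 ^ (w.length + 1)
    rw [ev_sigma w fun t ht => h t (List.mem_cons_of_mem _ ht), sigma, if_pos hs, pow_succ']
    simp only [← mul_assoc]
    rw [mul_assoc (g (s + 2)) (g 0), hc.eq, ← mul_assoc]

theorem l_pow_even {n : ℕ} (h : n % 2 = 0) : g 0 ^ n = 1 := by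
  rw [← Nat.div_add_mod n 2, h, Nat.add_zero, pow_mul, sq, O.sq, one_pow]

theorem sigma_words {w : List ℕ} (hw : w ∈ Fi23.words) : ev (sigma g) w = 1 := by
  have hl : Act.lettersOk 10 Fi23.words = true := by decide +kernel
  rw [O.ev_sigma w (Act.lt_of_lettersOk hl hw)]
  have hd : (Fi23.words.all fun r =>
      derivedOk 12 (qSpider.map (fun i => subLetters.getD i 12) :: base13) (evenUp r)) = true := by decide +kernel
  have hk : ∀ r ∈ qSpider.map (fun i => subLetters.getD i 12) :: base13, ev g r = 1 := fun r hr => by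
    rcases List.mem_cons.1 hr with rfl | hr
    · exact O.spider
    · exact O.words_one r hr
  have := ev_derived (fun s _ => O.sq s) hk (List.all_eq_true.1 hd w hw)
  rcases Nat.mod_two_eq_zero_or_one w.length with h | h
  · rw [evenUp, h] at this
    simpa [O.l_pow_even h] using this
  · rw [evenUp, h] at this
    simp only [show Nat.beq 1 0 = false from rfl, cond_false, ev_append, ev, mul_one] at this
    rwa [← Nat.div_add_mod w.length 2, h, pow_succ, O.l_pow_even (by omega), one_mul]

theorem exists_phi : ∃ φ : Spor.Fi23 →* G, ∀ s, φ (Fi23.g s) = sigma g s :=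
  Fi23.pres.exists_hom (sigma g) O.sigma_sq (fun _ hw => O.sigma_words hw) fun s hs => by
    have : 10 ≤ s := hs
    simp [sigma, Nat.not_lt.2 this]

/-- The homomorphism from Fi₂₃. -/
noncomputable def phi : Spor.Fi23 →* G := O.exists_phi.choose

theorem phi_g (s : ℕ) : O.phi (Fi23.g s) = sigma g s := O.exists_phi.choose_spec s

theorem phi_ev (w : List ℕ) : O.phi (ev Fi23.g w) = ev (sigma g) w := by
  rw [ev_map]
  exact congrArg (ev · w) (funext O.phi_g)

theorem l_comm_phi (y : Spor.Fi23) : Commute (g 0) (O.phi y) := by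
  refine Fus.Fi24Model.fi23_induction (P := fun y => Commute (g 0) (O.phi y)) (by rw [map_one]; exact Commute.one_right _)
    (fun a b ha hb => by rw [map_mul]; exact ha.mul_right hb) (fun s hs => ?_) y
  rw [O.phi_g, sigma, if_pos hs]
  exact Commute.mul_right (O.zero_comm (by omega) (by omega)) (Commute.refl _)

theorem ev_eq : ∀ w : List ℕ, okH w = true → ev g w = O.phi (ev Fi23.g (down w)) * g 0 ^ w.length
  | [], _ => by simp [ev, down]
  | s :: w, h => by
    have hw : okH w = true := by
      simp only [okH, List.all_cons, Bool.and_eq_true] at h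
      exact h.2
    show g s * ev g w = _
    rw [ev_eq w hw]
    rcases lt_of_okH h (List.mem_cons_self ..) with rfl | ⟨h2, h12⟩
    · rw [show down (0 :: w) = down w from rfl, List.length_cons, pow_succ', ← mul_assoc, ← mul_assoc,
        (O.l_comm_phi _).eq]
    · have e : down (s :: w) = (s - 2) :: down w := by
        simp only [down]
        rw [List.filter_cons_of_pos (by
          simp only [Bool.not_eq_true', ← Bool.not_eq_true, Nat.beq_eq]; omega), List.map_cons]
      rw [e, ev, map_mul, O.phi_g, sigma, if_pos (by omega), Nat.sub_add_cancel h2, List.length_cons, pow_succ',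
        mul_assoc, mul_assoc, ← mul_assoc (O.phi _) (g 0), ← (O.l_comm_phi _).eq, ← mul_assoc (g 0),
        ← mul_assoc (g 0), O.sq, one_mul]

theorem eq_one_of_isOne {w : List ℕ} (h : isOne w = true) : ev g w = 1 := by
  simp only [isOne, Bool.and_eq_true, Nat.beq_eq] at h
  obtain ⟨⟨hl, he⟩, hc⟩ := h
  have := pow_eq_one Fi23.homA Fi23.det (down_lt hl) hc
  rw [pow_one] at this
  rw [O.ev_eq w hl, this, map_one, one_mul, O.l_pow_even he]

theorem ev_rev (w : List ℕ) : ev g w.reverse = (ev g w)⁻¹ :=
  ev_reverse (n := w.sum + 1) (fun s _ => O.sq s) w fun _ hs => Nat.lt_succ_of_le (List.le_sum_of_mem hs)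

theorem mem_HS {w : List ℕ} (h : okH w = true) : ev g w ∈ (HS g) :=
  ev_mem w fun _ hs => mem_single (List.contains_iff_mem.1 (List.all_eq_true.1 h _ hs))

theorem loop_mem {wR : List ℕ × ℕ} (h : wR ∈ loops) : ev g (sub wR.1) ∈ (HS g) := by
  have hc : (loops.all fun x => Fi24Up.t1080.walk Fi24Up.t1080.nF 0 x.1.length x.2 0 x.1) = true := by
    decide +kernel
  have hw := List.all_eq_true.1 hc wR h
  have hi : ∀ s < Fi24Up.t1080.n, g (subLetters.getD s 12) * g (subLetters.getD s 12) = 1 := fun s _ => O.sq _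
  have hbase : ∀ w ∈ Fi24Up.t1080Base, ev g (w.map fun i => subLetters.getD i 12) = 1 :=
    hbase_of O.sq O.words_one (n := 12) (by decide +kernel)
  have hrels : ∀ r ∈ Fi24Up.t1080.rels, ev (fun i => g (subLetters.getD i 12)) r = 1 := fun r hr =>
    ev_derived hi (fun x hx => (ev_reletter subLetters 12 x).trans (hbase x hx))
      (List.all_eq_true.1 Fi24Up.t1080_derived r hr)
  have hsub : ∀ v ∈ Fi24Up.t1080.sub, ev (fun i => g (subLetters.getD i 12)) v ∈ (HS g) := fun v hv => by
    have hd : (Fi24Up.t1080.sub.all fun u => okH (sub u)) = true := by decide +kernel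
    rw [ev_reletter]
    exact O.mem_HS (List.all_eq_true.1 hd v hv)
  have := Fi24Up.t1080.loop_mem (g := fun i => g (subLetters.getD i 12)) hi Fi24Up.t1080_checks.defs
    Fi24Up.t1080_checks.facts hrels hsub hw
  rwa [ev_reletter] at this

theorem comm_k {w : List ℕ} (h : (w.all fun s => kLetters.contains s) = true) :
    Commute (g 1) (ev g w) := by
  induction w with
  | nil => exact Commute.one_right _
  | cons s w ih =>
    simp only [List.all_cons, Bool.and_eq_true] at h
    refine Commute.mul_right ?_ (ih h.2)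
    have := List.contains_iff_mem.1 h.1
    simp only [kLetters, List.mem_cons, List.not_mem_nil, or_false] at this
    rcases this with rfl | rfl | rfl | rfl | rfl | rfl | rfl | rfl | rfl <;>
      exact O.toCox12.comm (by norm_num) (by norm_num) rfl

theorem okH_of_k {w : List ℕ} (h : (w.all fun s => kLetters.contains s) = true) : okH w = true := by
  refine List.all_eq_true.2 fun s hs => ?_
  have := List.contains_iff_mem.1 (List.all_eq_true.1 h s hs)
  simp only [kLetters, hLetters, List.mem_cons, List.not_mem_nil, or_false, List.contains_eq_mem,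
    decide_eq_true_eq] at this ⊢
  omega

theorem inv_gen (s : ℕ) : (g s)⁻¹ = g s := O.toCox12.inv_eq s

theorem rho_step : g 1 * ev g rho * g 1 * (ev g kap)⁻¹ * (ev g rho)⁻¹ * g 1 ∈ (HS g) := by
  have h : Fi24Up.isLoop ([1] ++ rho ++ [1] ++ kap.reverse ++ rho.reverse ++ [1]) = true := by decide +kernel
  obtain ⟨x, hx, e⟩ := List.any_eq_true.1 h
  have := O.loop_mem hx
  rw [beq_iff_eq.1 e] at this
  simpa only [ev_append, O.ev_rev, ev, mul_one, mul_assoc] using this

theorem path_mem : ∀ (L : List (List ℕ × List ℕ × List ℕ)) (h : List ℕ), chkSteps h L = true →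
    g 1 * ev g h * ev g (pathWord L) * (g 1 * ev g (pathEnd h L))⁻¹ ∈ (HS g)
  | [], h, _ => by
    simp only [pathWord, pathEnd, ev_append, mul_inv_rev]
    group
    exact (HS g).one_mem
  | (seg, k1, k2) :: L, h, hc => by
    simp only [chkSteps, Bool.and_eq_true] at hc
    obtain ⟨⟨⟨⟨hs, h1⟩, h2⟩, he⟩, hrest⟩ := hc
    have ih := path_mem L _ hrest
    have e0 := O.eq_one_of_isOne he
    simp only [ev_append, O.ev_rev] at e0
    have e : ev g h * ev g seg = ev g k1 * ev g rho * ev g k2 := by
      calc ev g h * ev g seg = (ev g h * ev g seg * (ev g k2)⁻¹ * (ev g rho)⁻¹ * (ev g k1)⁻¹) *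
            (ev g k1 * ev g rho * ev g k2) := by group
        _ = _ := by rw [e0, one_mul]
    have key : g 1 * ev g h * ev g seg * g 1 * (g 1 * ev g (rho ++ kap ++ k2))⁻¹ ∈ (HS g) := by
      have c1 := (O.comm_k h1).eq
      have c2 := (O.comm_k h2).eq
      have : g 1 * ev g h * ev g seg * g 1 * (g 1 * ev g (rho ++ kap ++ k2))⁻¹ =
          ev g k1 * (g 1 * ev g rho * g 1 * (ev g kap)⁻¹ * (ev g rho)⁻¹ * g 1) := by
        rw [mul_assoc (g 1) (ev g h), e]
        simp only [ev_append, mul_inv_rev, O.inv_gen]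
        calc g 1 * (ev g k1 * ev g rho * ev g k2) * g 1 * ((ev g k2)⁻¹ * ((ev g kap)⁻¹ * (ev g rho)⁻¹) * g 1)
            = (g 1 * ev g k1) * ev g rho * ((ev g k2 * g 1) * (ev g k2)⁻¹) * ((ev g kap)⁻¹ * (ev g rho)⁻¹) *
              g 1 := by group
          _ = (ev g k1 * g 1) * ev g rho * ((g 1 * ev g k2) * (ev g k2)⁻¹) * ((ev g kap)⁻¹ * (ev g rho)⁻¹) *
              g 1 := by rw [c1, c2]
          _ = ev g k1 * (g 1 * ev g rho * g 1 * (ev g kap)⁻¹ * (ev g rho)⁻¹ * g 1) := by group
      rw [this]
      exact (HS g).mul_mem (O.mem_HS (O.okH_of_k h1)) O.rho_step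
    have := (HS g).mul_mem key ih
    simp only [pathWord, pathEnd, ev_append, ev] at this ⊢
    convert this using 1
    group

theorem exists_phi_eq {y : G} (hy : y ∈ (HS g)) : ∃ f e, y = O.phi f * g 0 ^ (e : ℕ) := by
  induction hy using Subgroup.closure_induction with
  | mem x hx =>
    obtain ⟨w, hw, rfl⟩ := hx
    obtain ⟨s, hs, rfl⟩ := List.mem_map.1 hw
    have : okH [s] = true := by simpa [okH] using hs
    exact ⟨_, _, O.ev_eq [s] this⟩
  | one => exact ⟨1, 0, by simp⟩
  | mul a b _ _ ha hb =>
    obtain ⟨f, e, rfl⟩ := ha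
    obtain ⟨f', e', rfl⟩ := hb
    refine ⟨f * f', e + e', ?_⟩
    rw [map_mul, pow_add, mul_assoc, ← mul_assoc (g 0 ^ e), ((O.l_comm_phi f').pow_left e).eq, mul_assoc,
      ← mul_assoc]
  | inv a _ ha =>
    obtain ⟨f, e, rfl⟩ := ha
    refine ⟨f⁻¹, e, ?_⟩
    rw [mul_inv_rev, map_inv, ← inv_pow, O.inv_gen]
    exact ((O.l_comm_phi f).pow_left e).inv_right.eq

theorem fW_eq : ∃ y ∈ (HS g), ev g fW = g 1 * y * g 1 * ev g extraK := by
  refine ⟨_, O.path_mem pathSteps pathStart (by decide +kernel), ?_⟩
  have e : extraK = pathEnd pathStart pathSteps ++ pathStart.reverse := by decide +kernel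
  rw [fW, e]
  simp only [ev_append, O.ev_rev, mul_inv_rev, O.inv_gen, mul_assoc]
  rw [← mul_assoc (g 1) (g 1) (ev g pathStart * _), O.sq, one_mul, ← mul_assoc (g 1) (g 1) (ev g (pathEnd _ _) * _),
    O.sq, one_mul, inv_mul_cancel_left]

theorem phi_NB_comm {n : Spor.Fi23} (hn : n ∈ NB) : Commute (g 1) (O.phi n) := by
  have hle : NB ≤ (Subgroup.centralizer {g 1}).comap O.phi := by
    refine (Subgroup.closure_le _).2 ?_
    rintro _ ⟨a, ha, b, hb, rfl⟩
    rw [SetLike.mem_coe, Subgroup.mem_comap, Subgroup.mem_centralizer_singleton_iff, ge_letter ha, ge_letter hb]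
    have e : O.phi (Fi23.g (a + 1) * Fi23.g (b + 1)) = ev g [a + 3, b + 3] := by
      have h := O.phi_ev [a + 1, b + 1]
      simp only [ev, mul_one] at h
      have hv := O.ev_sigma [a + 1, b + 1] (fun s hs => by simp at hs; omega)
      rw [O.l_pow_even (n := [a + 1, b + 1].length) (by simp), mul_one] at hv
      simp only [ev, mul_one] at hv
      rw [h, hv]
      simp [up, ev]
    rw [e]
    refine (O.comm_k ?_).eq.symm
    interval_cases a <;> interval_cases b <;> rfl
  exact (Subgroup.mem_centralizer_singleton_iff.1 (hle hn)).symm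

theorem q_zero : q (g 0) = inc (1, sgn) := by
  rw [Fus.Fi24Model.inc_central, O.proj 0 (by norm_num)]
  rfl

theorem q_phi (y : Spor.Fi23) : q (O.phi y) = inc (y, 1) := by
  refine Fus.Fi24Model.fi23_induction (P := fun y => q (O.phi y) = inc (y, 1))
    (by rw [map_one, map_one]; exact (map_one inc).symm)
    (fun a b ha hb => by
      rw [map_mul, map_mul, ha, hb, ← map_mul]
      exact congrArg inc (Prod.ext rfl (one_mul 1))) (fun s hs => ?_) y
  rw [O.phi_g, sigma, if_pos hs, map_mul, O.q_zero, O.proj _ (by omega),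
    show gen12 (s + 2) = Fus.Fi24Model.mP s from rfl, ← Fus.Fi24Model.inc_g hs, ← map_mul]
  exact congrArg inc (Prod.ext (mul_one _) Fus.Fi24Model.sgn_sq)

theorem extraK_HB : ev Fi23.g (down extraK) ∈ HB := by
  have hk : okH extraK = true := by decide +kernel
  have hl : ∀ s ∈ extraK, s < 12 := fun s hs => by
    rcases lt_of_okH hk hs with rfl | ⟨-, h⟩ <;> omega
  have hq : q (ev g extraK) = inc (ev Fi23.g (down extraK), sgn ^ extraK.length) := by
    rw [O.ev_eq _ hk, map_mul, map_pow, O.q_phi, O.q_zero, ← map_pow, ← map_mul]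
    exact congrArg inc (Prod.ext (by simp) (by simp))
  have hev : q (ev g extraK) = ev gen12 extraK := by
    rw [ev_map]
    have : ∀ L : List ℕ, (∀ s ∈ L, s < 12) → ev (fun s => q (g s)) L = ev gen12 L := by
      intro L
      induction L with
      | nil => exact fun _ => rfl
      | cons s L ih =>
        intro h
        rw [ev, ev, O.proj s (h s (by simp)), ih fun t ht => h t (by simp [ht])]
    exact this _ hl
  have hfix : ev gen12 extraK cpt = cpt := by
    refine Fin.ext ?_
    rw [Fus.Fi24Model.ev12_val _ hl]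
    exact Nat.eq_of_beq_eq_true (by decide +kernel)
  rw [← Fus.Fi24Model.Lh_map, Fus.Fi24Model.Lh_eq]
  exact ⟨_, (show _ ∈ Fus.Fi24Model.Sh by
    show inc (ev Fi23.g (down extraK), sgn ^ extraK.length) cpt = cpt
    rw [← hq, hev]
    exact hfix), rfl⟩

/-- The carried word commutes with the even part of the stabiliser of k. -/
theorem fW_comm (hf : q (ev g fW) = 1) {n : Spor.Fi23} (hn : n ∈ NB) :
    Commute (ev g fW) (O.phi n) := by
  have hk : okH extraK = true := by decide +kernel
  obtain ⟨y, hy, e⟩ := O.fW_eq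
  obtain ⟨f, m, rfl⟩ := O.exists_phi_eq hy
  set n' := ev Fi23.g (down extraK) * n * (ev Fi23.g (down extraK))⁻¹ with hn'
  have hn'NB : n' ∈ NB := (Subgroup.mem_normalizer_iff.1 (norm_NB O.extraK_HB) n).1 hn
  clear_value n'
  have hl : ∀ y : Spor.Fi23, ∀ j : ℕ, g 0 ^ j * O.phi y * (g 0 ^ j)⁻¹ = O.phi y := fun y j => by
    rw [((O.l_comm_phi y).pow_left j).eq, mul_inv_cancel_right]
  have c1 : ev g extraK * O.phi n * (ev g extraK)⁻¹ = O.phi n' := by
    rw [O.ev_eq _ hk, hn', map_mul, map_mul, map_inv]
    calc O.phi (ev Fi23.g (down extraK)) * g 0 ^ extraK.length * O.phi n *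
          (O.phi (ev Fi23.g (down extraK)) * g 0 ^ extraK.length)⁻¹
        = O.phi (ev Fi23.g (down extraK)) * (g 0 ^ extraK.length * O.phi n * (g 0 ^ extraK.length)⁻¹) *
          (O.phi (ev Fi23.g (down extraK)))⁻¹ := by group
      _ = _ := by rw [hl]
  have c2 : g 1 * O.phi n' * g 1 = O.phi n' := by
    rw [(O.phi_NB_comm hn'NB).eq, mul_assoc, O.sq, mul_one]
  have c3 : ev g fW * O.phi n * (ev g fW)⁻¹ = g 1 * O.phi (f * n' * f⁻¹) * g 1 := by
    rw [e]
    calc g 1 * (O.phi f * g 0 ^ m) * g 1 * ev g extraK * O.phi n *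
          (g 1 * (O.phi f * g 0 ^ m) * g 1 * ev g extraK)⁻¹
        = g 1 * (O.phi f * g 0 ^ m) * (g 1 * (ev g extraK * O.phi n * (ev g extraK)⁻¹) * (g 1)⁻¹) *
          (O.phi f * g 0 ^ m)⁻¹ * (g 1)⁻¹ := by group
      _ = g 1 * O.phi f * (g 0 ^ m * O.phi n' * (g 0 ^ m)⁻¹) * (O.phi f)⁻¹ * g 1 := by
        rw [c1, O.inv_gen, c2]; group
      _ = _ := by rw [hl, map_mul, map_mul, map_inv]; simp only [mul_assoc]
  have hm : f * n' * f⁻¹ = n := by
    have := congrArg q c3
    simp only [map_mul, map_inv, hf, one_mul, inv_one, mul_one, O.q_phi] at this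
    have hi : inc (f * n' * f⁻¹, 1) = inc (f, 1) * inc (n', 1) * (inc (f, 1))⁻¹ := by
      rw [← map_inv, ← map_mul, ← map_mul, Prod.inv_mk, Prod.mk_mul_mk, Prod.mk_mul_mk, inv_one,
        mul_one, mul_one]
    rw [← hi] at this
    have hc := congrArg q (O.phi_NB_comm hn).eq
    simp only [map_mul, O.q_phi] at hc
    have k2 : q (g 1) * q (g 1) = 1 := by rw [← map_mul, O.sq, map_one]
    refine congrArg (fun h : Fus.Fi24Model.HH => h.1)
      (Fus.Fi24Model.inc_injective (a₁ := (f * n' * f⁻¹, 1)) (a₂ := (n, 1)) ?_)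
    show inc (f * n' * f⁻¹, 1) = inc (n, 1)
    calc inc (f * n' * f⁻¹, 1)
        = q (g 1) * q (g 1) * inc (f * n' * f⁻¹, 1) * (q (g 1) * q (g 1)) := by rw [k2, one_mul, mul_one]
      _ = q (g 1) * inc (n, 1) * q (g 1) := by rw [this]; simp only [mul_assoc]
      _ = inc (n, 1) := by rw [hc, mul_assoc, k2, mul_one]
  have c4 : g 1 * O.phi n * g 1 = O.phi n := by
    rw [(O.phi_NB_comm hn).eq, mul_assoc, O.sq, mul_one]
  rw [hm, c4] at c3
  exact mul_inv_eq_iff_eq_mul.1 c3

end Over

end Cfsg.Agent.Spor.Cos.Fi24Mult
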