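import Cfsg.Agent.Lib.Spor.Cos.Fi24Mult.Relators
import Cfsg.Agent.Lib.Spor.Cos.Fi24Mult.Embed
import Cfsg.Agent.Lib.Spor.Cos.Fi24Mult.Data.TreeW

/-!
The word along the relator of length 238 moves every sheet to the one before: it commutes with the even part of
the stabiliser of k, so one look at two points in each orbit is enough.
-/

set_option autoImplicit false
set_option maxRecDepth 100000
set_option maxHeartbeats 4000000
set_option exponentiation.threshold 4000

namespace Cfsg.Agent.Spor.Cos.Fi24Mult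

open Cfsg.Agent.Fus.Fi24Model (M A0 Xp nA gen12 ev12_val go12 eq_one_of_base mimN pP pA kinds inW exists_pt
  out_ind apart_ind pOut mA rk rz roots_lt)
open Cfsg.Agent.Fus.M23U.Triality (chkTree tree_spec img pt ge ge_letter NB img_spec treeK treeK_ok)

attribute [local irreducible] Cfsg.Agent.Fus.Fi24Model.kimN Cfsg.Agent.Fus.Fi24Model.limN
  Cfsg.Agent.Fus.Fi24Model.mimN Cfsg.Agent.Fus.Fi24Model.imA

/-- A generator of the model, 1 outside the twelve. -/
noncomputable def bgen (s : ℕ) : Equiv.Perm Xp := if s < 12 then gen12 s else 1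

/-- A generator on the sheets and on the points. -/
noncomputable def gp (s : ℕ) : Equiv.Perm Yp × Equiv.Perm Xp := (lift s, bgen s)

theorem ev_prod {A B : Type*} [Group A] [Group B] (a : ℕ → A) (b : ℕ → B) :
    ∀ w : List ℕ, ev (fun s => (a s, b s)) w = (ev a w, ev b w)
  | [] => rfl
  | s :: w => by rw [ev, ev, ev, ev_prod a b w]; rfl

theorem ev_gp (w : List ℕ) : ev gp w = (ev lift w, ev bgen w) := ev_prod lift bgen w

theorem ev_bgen : ∀ w : List ℕ, (∀ s ∈ w, s < 12) → ev bgen w = ev gen12 w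
  | [], _ => rfl
  | s :: w, h => by
    rw [ev, ev, ev_bgen w fun t ht => h t (List.mem_cons_of_mem _ ht), bgen, if_pos (h s (List.mem_cons_self ..))]

theorem bgen_one {w : List ℕ} (h : ((w.all fun u => Nat.blt u 12) &&
    ([0, A0, 1, 2, 3, 4, 5, 6, 7, 9, 10].all fun x => Nat.beq (go12 w x) x)) = true) : ev bgen w = 1 := by
  rw [Bool.and_eq_true] at h
  rw [ev_bgen w fun u hu => Nat.le_of_ble_eq_true (List.all_eq_true.1 h.1 u hu), eq_one_of_base h.1 h.2]

theorem isOver : Over gp (MonoidHom.snd (Equiv.Perm Yp) (Equiv.Perm Xp)) where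
  sq s := by
    refine Prod.ext (lift_sq s) ?_
    show bgen s * bgen s = 1
    unfold bgen
    split_ifs with h
    exacts [Fus.Fi24Model.gen12_sq h, one_mul 1]
  cox s hs t ht := by
    refine Prod.ext (pair_one hs ht) ?_
    have h := bgen_one (List.all_eq_true.1 (List.all_eq_true.1 pairs_base s (List.mem_range.2 hs)) t
      (List.mem_range.2 ht))
    rw [pairW, ev_power] at h
    simpa [ev, gp] using h
  e7 := by rw [ev_gp, e7_one, bgen_one e7_base]; rfl
  out := by
    refine Prod.ext ?_ ?_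
    · show lift 12 = 1
      rw [lift, dif_neg (by norm_num)]
    · show bgen 12 = 1
      rw [bgen, if_neg (by norm_num)]
  proj _ hs := if_pos hs

theorem fW_base : ((fW.all fun u => Nat.blt u 12) &&
    ([0, A0, 1, 2, 3, 4, 5, 6, 7, 9, 10].all fun x => Nat.beq (go12 fW x) x)) = true := by
  decide +kernel

theorem fW_even : fW.length % 2 = 0 := by decide +kernel

/-- The moves of two letters commute with the carried word. -/
theorem two_comm {a b : ℕ} (ha : a < 9) (hb : b < 9) :
    Commute (ev lift fW) (lift (a + 3) * lift (b + 3)) := by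
  have hn : ge a * ge b ∈ NB := Subgroup.subset_closure ⟨a, ha, b, hb, rfl⟩
  have hq : (MonoidHom.snd (Equiv.Perm Yp) (Equiv.Perm Xp)) (ev gp fW) = 1 := by
    rw [ev_gp]
    exact bgen_one fW_base
  have h := (isOver.fW_comm hq hn).map (MonoidHom.fst (Equiv.Perm Yp) (Equiv.Perm Xp))
  have hv := isOver.phi_ev [a + 1, b + 1]
  rw [isOver.ev_sigma _ (fun s hs => by simp at hs; omega), show [a + 1, b + 1].length = 2 from rfl,
    isOver.l_pow_even (n := 2) rfl, mul_one] at hv
  simp only [ev, mul_one, Fi24Up.up, List.map_cons, List.map_nil] at hv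
  rw [ge_letter ha, ge_letter hb, hv, ev_gp] at h
  exact h

/-- The carried word moves the first sheet over a point to the third. -/
def moved (x : ℕ) : Prop := go3 fW (3 * x) = 3 * x + 2

theorem moved_step {a b : ℕ} (ha : a < 9) (hb : b < 9) {x : ℕ} (hx : x < M) (h : moved x) :
    moved (imF (a + 3) (imF (b + 3) x)) := by
  obtain ⟨hw, hbase⟩ := base_fix fW_base
  have hD : ∀ s ∈ [a + 3, b + 3], s < 12 := fun s hs => by simp at hs; omega
  set z := imF (a + 3) (imF (b + 3) x)
  have hz : go12 [a + 3, b + 3] x = z := by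
    rw [go12_cons, go12_cons, show go12 [] x = x from rfl, ← imF_eq (s := b + 3) (by omega),
      ← imF_eq (s := a + 3) (by omega)]
  have hzM : z < M := hz ▸ go12_lt _ hD hx
  obtain ⟨d, hd, hDz⟩ := go3_affine [a + 3, b + 3] hD x
  obtain ⟨c, hc, hT⟩ := go3_affine fW hw z
  have e := two_comm ha hb
  have p0 : 3 * x + 0 < 3 * M := by omega
  have h2 := congrArg (fun P : Equiv.Perm Yp => (P ⟨3 * x + 0, p0⟩ : ℕ)) e.eq
  simp only [Equiv.Perm.mul_apply] at h2
  have eD : ∀ q : Yp, ((lift (a + 3) (lift (b + 3) q) : Yp) : ℕ) = go3 [a + 3, b + 3] q := fun q => by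
    rw [← ev3_val _ hD]
    simp [ev]
  rw [ev3_val _ hw, eD, eD, ev3_val _ hw] at h2
  simp only at h2
  rw [hDz 0 (by norm_num), hz, show 3 * x + 0 = 3 * x from rfl, show go3 fW (3 * x) = 3 * x + 2 from h,
    hDz 2 (by norm_num), hz, hT _ (by unfold sheet; split_ifs <;> omega), hbase z hzM] at h2
  show go3 fW (3 * z) = 3 * z + 2
  rw [show 3 * z = 3 * z + 0 from rfl, hT 0 (by norm_num), hbase z hzM]
  simp only [sheet, fW_even, if_true, List.length_cons, List.length_nil] at h2 ⊢
  omega

/-- The word moves the first sheets over a point and its image under b. -/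
def twice (x : ℕ) : Prop := x < M ∧ moved x ∧ moved (imF 3 x)

theorem twice_step {a : ℕ} (ha : a < 9) {x : ℕ} (h : twice x) : twice (imF (a + 3) x) := by
  obtain ⟨hx, h1, h2⟩ := h
  obtain ⟨hl, -⟩ := imF_spec (s := a + 3) (by omega) hx
  refine ⟨hl, ?_, moved_step (a := 0) (by norm_num) ha hx h1⟩
  have := moved_step ha (b := 0) (by norm_num) (imF_spec (s := 3) (by norm_num) hx).1 h2
  rwa [(imF_spec (s := 3) (by norm_num) hx).2] at this

/-- The roots of the orbits. -/
noncomputable def roots : List ℕ :=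
  [0, 1 + Fus.M23U.Triality.posT.at 0, 1 + Fus.M23U.Triality.posT.at 1080, 1 + Fus.Fi24Model.p0, A0, A0 + 1, A0 + rk,
    A0 + Nat.xor rk 1, A0 + rz]

theorem roots_ok : (roots.all fun x => Nat.blt x 306936 && Nat.beq (go3 fW (3 * x)) (3 * x + 2) &&
    force (imF 3 x) fun y => Nat.beq (go3 fW (3 * y)) (3 * y + 2)) = true := by decide +kernel

theorem treeW_ok : chkTree 9 img treeW (2 ^ 3240 - 2 ^ 1080) (2 ^ 1080) = true := by decide +kernel

theorem twice_root {x : ℕ} (h : x ∈ roots) : twice x := by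
  have h' := List.all_eq_true.1 roots_ok x h
  simp only [Bool.and_eq_true, force_eq] at h'
  obtain ⟨⟨h1, h2⟩, h3⟩ := h'
  exact ⟨lt_of_lt_of_eq (Nat.le_of_ble_eq_true h1) Fus.Fi24Model.M_eq.symm, Nat.eq_of_beq_eq_true h2,
    Nat.eq_of_beq_eq_true h3⟩

theorem twice_all (x : Xp) : twice x := by
  have hPstep : ∀ (k : ℕ), k < 9 → ∀ p : Fin Fi23.actA.N, twice (pP p) →
      twice (pP (Fi23.piA (Fi23.g (k + 1)) p)) := by
    intro k hk p h
    have e := twice_step hk h
    rwa [imF_eq (by omega), show Fus.Fi24Model.im12 (k + 3) = mimN (k + 1) from rfl,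
      show ((pP p : Xp) : ℕ) = 1 + p from rfl, mimN, Fus.Fi24Model.byKind_P,
      show 1 + Fi23.actA.im p (k + 1) = ((pP (Fi23.piA (Fi23.g (k + 1)) p) : Xp) : ℕ) from by
        show _ = 1 + _
        rw [Fi23.homA.gen, Fi23.actA.perm_apply Fi23.homA.inv (show k + 1 < Fi23.actA.n by
          rw [Fus.Fi24Model.n_eq]; omega)]] at e
  obtain rfl | ⟨p, rfl⟩ | ⟨i, rfl⟩ := kinds x
  · exact twice_root (List.mem_cons_self ..)
  · cases hW : inW p with
    | false =>
      refine out_ind (P := fun p => twice (pP p)) (twice_root ?_) (fun s hs q _ h => hPstep s hs q h) p hW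
      show 1 + Fus.Fi24Model.p0 ∈ roots
      simp [roots]
    | true =>
      obtain ⟨j, hj, rfl⟩ := exists_pt hW
      have step : ∀ k < 9, ∀ j, (j < 3240 ∧ twice (pP (pt j))) → (img k j < 3240 ∧ twice (pP (pt (img k j)))) := by
        rintro k hk j ⟨hj, h⟩
        obtain ⟨e, hl, -⟩ := img_spec (k := k) (by omega) hj
        refine ⟨hl, ?_⟩
        rw [← e, ge_letter hk]
        exact hPstep k hk _ h
      have root : ∀ r, r < 3240 → 1 + Fus.M23U.Triality.posT.at r ∈ roots → twice (pP (pt r)) := fun r hr h => by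
        have := twice_root h
        rwa [← Fus.M23U.Triality.pt_val hr] at this
      by_cases h : j < 1080
      · refine (tree_spec (fun i => i < 3240 ∧ twice (pP (pt i))) step treeK 1 treeK_ok ?_ j ?_).2
        · intro i hi
          rw [Nat.testBit_one_eq_true_iff_self_eq_zero] at hi
          subst hi
          exact ⟨by norm_num, root 0 (by norm_num) (by simp [roots])⟩
        · rw [Nat.testBit_two_pow_sub_one, decide_eq_true_eq]; exact h
      · refine (tree_spec (fun i => i < 3240 ∧ twice (pP (pt i))) step treeW (2 ^ 1080) treeW_ok ?_ j ?_).2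
        · intro i hi
          rw [Nat.testBit_two_pow, decide_eq_true_eq] at hi
          subst hi
          exact ⟨by norm_num, root 1080 (by norm_num) (by simp [roots])⟩
        · have e : ∀ a b : ℕ, a ≤ b → (2 ^ b - 2 ^ a) = (2 ^ (b - a) - 1) * 2 ^ a := fun a b hab => by
            rw [Nat.sub_mul, ← pow_add, Nat.sub_add_cancel hab, one_mul]
          rw [e _ _ (by norm_num), Nat.testBit_mul_two_pow, Nat.testBit_two_pow_sub_one]
          simp only [Bool.and_eq_true, decide_eq_true_eq]
          omega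
  · refine apart_ind (P := fun i => twice (pA i)) (fun i hi => twice_root ?_) (twice_root ?_) (twice_root ?_)
      (twice_root ?_) (fun s hs q h => ?_) i
    · show A0 + (i : ℕ) ∈ roots
      rcases Nat.le_one_iff_eq_zero_or_eq_one.1 (Nat.le_of_lt_succ hi) with e | e <;> rw [e] <;> simp [roots]
    · show A0 + rk ∈ roots
      simp [roots]
    · show A0 + Nat.xor rk 1 ∈ roots
      simp [roots]
    · show A0 + rz ∈ roots
      simp [roots]
    · have e := twice_step hs h
      rwa [imF_eq (by omega), show Fus.Fi24Model.im12 (s + 3) = mimN (s + 1) from rfl,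
        show ((pA q : Xp) : ℕ) = A0 + q from rfl, mimN, Fus.Fi24Model.byKind_A,
        show A0 + Fus.Fi24Model.imA (s + 1) q = ((pA (mA (s + 1) (by omega) q) : Xp) : ℕ) from rfl] at e

/-- The carried word moves every sheet two steps on. -/
theorem fW_moves (p : Yp) : (ev lift fW p : ℕ) = 3 * ((p : ℕ) / 3) + ((p : ℕ) % 3 + 2) % 3 := by
  obtain ⟨hw, hbase⟩ := base_fix fW_base
  have hx : (p : ℕ) / 3 < M := by have := p.2; omega
  obtain ⟨c, hc, hT⟩ := go3_affine fW hw ((p : ℕ) / 3)
  have h := (twice_all ⟨(p : ℕ) / 3, hx⟩).2.1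
  unfold moved at h
  rw [show 3 * ((p : ℕ) / 3) = 3 * ((p : ℕ) / 3) + 0 from rfl, hT 0 (by norm_num), hbase _ hx] at h
  have e := hT ((p : ℕ) % 3) (Nat.mod_lt _ (by norm_num))
  rw [Nat.div_add_mod, hbase _ hx] at e
  rw [ev3_val _ hw, e]
  simp only [sheet, fW_even, if_true] at h ⊢
  omega

end Cfsg.Agent.Spor.Cos.Fi24Mult
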