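import Cfsg.Agent.Lib.Spor.Cos.Fi24Mult.Const
import Cfsg.Agent.Lib.Spor.Cos.Fi24Up.Main
import Cfsg.Prelude.Def_KGroupFacts

/-!
A triple cover of Fi₂₄′: the derived group of the group presented on Y₅₄₂ with the relation of E₇ alone, seen on
the three sheets over the points and in Fi₂₄.
-/

set_option autoImplicit false
set_option linter.style.haveILetI false
set_option maxRecDepth 100000
set_option maxHeartbeats 4000000

open Cfsg
open scoped commutatorElement

namespace Cfsg.Agent.Spor.Cos.Fi24Mult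

open Cfsg.Agent.Fus.Fi24Model (M gen12 eq_one_of_base)

attribute [local irreducible] Cfsg.Agent.Fus.Fi24Model.kimN Cfsg.Agent.Fus.Fi24Model.limN
  Cfsg.Agent.Fus.Fi24Model.mimN

/-- The relation of E₇. -/
def e7Rel : List (FreeGroup Spor.Fi24.Gen) := Spor.Fi24.extra.take 1

/-- The presented group without the relation of length 238. -/
abbrev P3 : Type := Spor.CoxPresented Spor.Fi24.Gen Spor.Fi24.edges e7Rel

/-- A generator of the presented group. -/
noncomputable def gP (s : ℕ) : P3 := gen Spor.Fi24.edges e7Rel Fi24Up.alph s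

theorem gP_num (a : Spor.Fi24.Gen) : gP (Fi24Up.num a) = PresentedGroup.of a := by
  simp [gP, gen, List.getD_eq_getElem?_getD, Fi24Up.pres.index a]

theorem relP_ok : (relList Spor.Fi24.edges e7Rel).all (fun r => derivedOk 12 base13 (letters Fi24Up.num r)) = true := by
  decide +kernel

theorem lift_words : ∀ w ∈ base13, ev lift w = 1 := fun w hw => by
  have h := congrArg Prod.fst (isOver.words_one w hw)
  rw [ev_gp] at h
  exact h

theorem lift_rels (r : FreeGroup Spor.Fi24.Gen) (hr : r ∈ Spor.coxRelators Spor.Fi24.edges ∪ {r | r ∈ e7Rel}) :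
    FreeGroup.lift (fun a => lift (Fi24Up.num a)) r = 1 := by
  rw [map_ev (FreeGroup.lift fun a => lift (Fi24Up.num a)) lift Fi24Up.num (fun a => FreeGroup.lift_apply_of)
    (fun a => lift_sq _)]
  exact ev_derived (fun t _ => lift_sq t) lift_words (List.all_eq_true.1 relP_ok r (mem_relList.2 hr))

/-- The action on the sheets. -/
noncomputable def onSheets : P3 →* Equiv.Perm Yp := PresentedGroup.toGroup lift_rels

theorem base_rels (r : FreeGroup Spor.Fi24.Gen) (hr : r ∈ Spor.coxRelators Spor.Fi24.edges ∪ {r | r ∈ e7Rel}) :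
    FreeGroup.lift (fun a => (PresentedGroup.of a : Spor.Fi24)) r = 1 := by
  have e : FreeGroup.lift (fun a => (PresentedGroup.of a : Spor.Fi24)) =
      PresentedGroup.mk (Spor.coxRelators Spor.Fi24.edges ∪ {r | r ∈ Spor.Fi24.extra}) :=
    FreeGroup.ext_hom _ _ fun a => by rw [FreeGroup.lift_apply_of]; rfl
  rw [e]
  exact PresentedGroup.one_of_mem (hr.imp id fun h => List.mem_of_mem_take h)

/-- The map onto Fi₂₄. -/
noncomputable def toBase : P3 →* Spor.Fi24 := PresentedGroup.toGroup base_rels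

theorem onSheets_gP {s : ℕ} (hs : s < 12) : onSheets (gP s) = lift s := by
  obtain ⟨a, rfl⟩ : ∃ a, Fi24Up.num a = s := by
    interval_cases s
    exacts [⟨.l, rfl⟩, ⟨.k, rfl⟩, ⟨.a, rfl⟩, ⟨.b, rfl⟩, ⟨.c, rfl⟩, ⟨.d, rfl⟩, ⟨.e, rfl⟩, ⟨.f, rfl⟩,
      ⟨.g, rfl⟩, ⟨.j, rfl⟩, ⟨.h, rfl⟩, ⟨.i, rfl⟩]
  rw [gP_num]
  exact PresentedGroup.toGroup.of lift_rels

theorem toBase_gP {s : ℕ} (hs : s < 12) : toBase (gP s) = Fi24Up.g s := by
  obtain ⟨a, rfl⟩ : ∃ a, Fi24Up.num a = s := by
    interval_cases s
    exacts [⟨.l, rfl⟩, ⟨.k, rfl⟩, ⟨.a, rfl⟩, ⟨.b, rfl⟩, ⟨.c, rfl⟩, ⟨.d, rfl⟩, ⟨.e, rfl⟩, ⟨.f, rfl⟩,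
      ⟨.g, rfl⟩, ⟨.j, rfl⟩, ⟨.h, rfl⟩, ⟨.i, rfl⟩]
  rw [gP_num, show Fi24Up.g (Fi24Up.num a) = PresentedGroup.of a from Fi24Up.pres.gen_idx a]
  exact PresentedGroup.toGroup.of base_rels

theorem toBase_surjective : Function.Surjective toBase := by
  rw [← MonoidHom.range_eq_top, eq_top_iff, ← PresentedGroup.closure_range_of, Subgroup.closure_le]
  rintro _ ⟨a, rfl⟩
  exact ⟨_, PresentedGroup.toGroup.of base_rels⟩

theorem gP_closure : Subgroup.closure {x | ∃ s < 12, gP s = x} = ⊤ := by
  refine eq_top_iff.2 ((PresentedGroup.closure_range_of _).ge.trans (Subgroup.closure_mono ?_))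
  rintro _ ⟨a, rfl⟩
  refine ⟨Fi24Up.num a, ?_, gP_num a⟩
  cases a <;> decide

theorem onSheets_ev : ∀ w : List ℕ, (∀ s ∈ w, s < 12) → onSheets (ev gP w) = ev lift w
  | [], _ => map_one _
  | s :: w, h => by
    rw [ev, map_mul, onSheets_gP (h s (List.mem_cons_self ..)), onSheets_ev w fun t ht => h t (List.mem_cons_of_mem _ ht)]
    rfl

theorem toBase_ev : ∀ w : List ℕ, (∀ s ∈ w, s < 12) → toBase (ev gP w) = ev Fi24Up.g w
  | [], _ => map_one _
  | s :: w, h => by
    rw [ev, map_mul, toBase_gP (h s (List.mem_cons_self ..)), toBase_ev w fun t ht => h t (List.mem_cons_of_mem _ ht)]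
    rfl

theorem base_finite : Finite Spor.Fi24 := Finite.of_injective _ Fi24Up.piG_bijective.1

theorem fW_lt : ∀ s ∈ fW, s < 12 := (base_fix fW_base).1

theorem fW_trivial : ev Fi24Up.g fW = 1 := by
  refine Fi24Up.piG_bijective.1 (Subtype.ext ?_)
  rw [map_one]
  have key : ∀ w : List ℕ, (∀ s ∈ w, s < 12) →
      ((Fi24Up.piG (ev Fi24Up.g w) : ↥Fus.Fi24Model.GG) : Equiv.Perm Fus.Fi24Model.Xp) = ev gen12 w := by
    intro w
    induction w with
    | nil => intro _; rw [ev, map_one]; rfl
    | cons s w ih =>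
      intro h
      rw [ev, map_mul, Subgroup.coe_mul, Fi24Up.piG_g (h s (List.mem_cons_self ..)),
        ih fun t ht => h t (List.mem_cons_of_mem _ ht)]
      rfl
  rw [key fW fW_lt]
  have h := fW_base
  rw [Bool.and_eq_true] at h
  exact eq_one_of_base h.1 h.2

/-- The move of all sheets by the carried word. -/
noncomputable def TT : Equiv.Perm Yp := ev lift fW

theorem TT_val (p : Yp) : (TT p : ℕ) = 3 * ((p : ℕ) / 3) + ((p : ℕ) % 3 + 2) % 3 := fW_moves p

theorem TT_cube : TT ^ 3 = 1 := by
  refine Equiv.ext fun p => Fin.ext ?_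
  rw [show TT ^ 3 = TT * TT * TT from by rw [pow_succ, pow_two], Equiv.Perm.mul_apply, Equiv.Perm.mul_apply,
    TT_val, TT_val, TT_val, Equiv.Perm.one_apply]
  omega

theorem TT_ne_one : TT ≠ 1 := fun h => by
  have p0 : 0 < 3 * M := by rw [Fus.Fi24Model.M_eq]; norm_num
  have := congrArg (fun P : Equiv.Perm Yp => (P ⟨0, p0⟩ : ℕ)) h
  simp only [TT_val, Equiv.Perm.one_apply] at this
  norm_num at this

theorem TT_inverted {s : ℕ} (hs : s < 12) : lift s * TT * lift s = TT⁻¹ := by
  have e : lift s * TT * lift s * TT = 1 := by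
    refine Equiv.ext fun p => Fin.ext ?_
    simp only [Equiv.Perm.mul_apply, Equiv.Perm.one_apply]
    have hp := TT_val p
    generalize TT p = q at hp ⊢
    have hx : (p : ℕ) / 3 < M := by have := p.2; omega
    have h1 : (lift s q : ℕ) = 3 * imF s ((p : ℕ) / 3) + (sh s ((p : ℕ) / 3) + 3 - ((p : ℕ) % 3 + 2) % 3) % 3 := by
      rw [lift_val hs, hp, im3_eq s _ (Nat.mod_lt _ (by norm_num))]
    have h2 := TT_val (lift s q)
    generalize TT (lift s q) = r at h2 ⊢
    rw [h1] at h2
    rw [lift_val hs, h2]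
    rw [show (3 * imF s ((p : ℕ) / 3) + (sh s ((p : ℕ) / 3) + 3 - ((p : ℕ) % 3 + 2) % 3) % 3) / 3 =
      imF s ((p : ℕ) / 3) by omega, im3_eq s _ (Nat.mod_lt _ (by norm_num)), (imF_spec hs hx).2, sh_imF hs hx]
    have := sh_lt s ((p : ℕ) / 3)
    omega
  exact eq_inv_of_mul_eq_one_left e

theorem zpowers_normalised (y : P3) :
    ∀ x ∈ Subgroup.zpowers TT, onSheets y * x * (onSheets y)⁻¹ ∈ Subgroup.zpowers TT := by
  have hy : y ∈ Subgroup.closure {x | ∃ s < 12, gP s = x} := gP_closure ▸ Subgroup.mem_top y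
  have hg : ∀ s < 12, ∀ x ∈ Subgroup.zpowers TT, lift s * x * lift s ∈ Subgroup.zpowers TT := by
    rintro s hs _ ⟨n, rfl⟩
    refine ⟨-n, ?_⟩
    show TT ^ (-n) = lift s * TT ^ n * lift s
    have hi : (lift s)⁻¹ = lift s := inv_eq_of_mul_eq_one_left (lift_sq s)
    conv_rhs => rw [show lift s * TT ^ n * lift s = lift s * TT ^ n * (lift s)⁻¹ by rw [hi], ← conj_zpow, hi,
      TT_inverted hs, inv_zpow, ← zpow_neg]
  induction hy using Subgroup.closure_induction_left with
  | one => intro x hx; simpa using hx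
  | mul_left a ha b _ ih =>
    obtain ⟨s, hs, rfl⟩ := ha
    intro x hx
    have := hg s hs _ (ih x hx)
    rw [map_mul, onSheets_gP hs, mul_inv_rev, inv_eq_of_mul_eq_one_left (lift_sq s)]
    simpa only [mul_assoc] using this
  | inv_mul_cancel a ha b _ ih =>
    obtain ⟨s, hs, rfl⟩ := ha
    intro x hx
    have := hg s hs _ (ih x hx)
    rw [map_mul, map_inv, onSheets_gP hs, mul_inv_rev, inv_eq_of_mul_eq_one_left (lift_sq s),
      inv_eq_of_mul_eq_one_left (lift_sq s)]
    simpa only [mul_assoc] using this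

/-- The relator of length 238. -/
def zWord : List ℕ := (Spor.Fi24.extra.drop 1).flatMap (letters Fi24Up.num)

theorem zWord_ok : ((Spor.Fi24.extra.drop 1).map (letters Fi24Up.num) == [zWord] && zWord.all (fun s => Nat.blt s 12) &&
    ((Fi24Up.pathWord Fi24Up.pathSteps).drop 1 ++ (Fi24Up.pathWord Fi24Up.pathSteps).take 1 == zWord)) = true := by
  decide +kernel

theorem zWord_image : ev lift zWord ∈ Subgroup.zpowers TT := by
  have h := zWord_ok
  simp only [Bool.and_eq_true, beq_iff_eq] at h
  have hlt := fW_lt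
  set W := Fi24Up.pathWord Fi24Up.pathSteps
  set a := W.take 1
  set b := W.drop 1
  set ps := Fi24Up.pathStart
  have hps : ∀ s ∈ ps, s < 12 := fun s hs => hlt s (by simp [fW, ps] at hs ⊢; exact Or.inl hs)
  have hW : ∀ s ∈ W, s < 12 := fun s hs => hlt s (by simp [fW, W] at hs ⊢; exact Or.inr (Or.inl hs))
  have ha : ∀ s ∈ a, s < 12 := fun s hs => hW s (List.mem_of_mem_take hs)
  rw [← h.2, ev_append]
  have e : ev lift b * ev lift a = (ev lift ps * ev lift a)⁻¹ * TT * (ev lift ps * ev lift a) := by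
    rw [TT, fW, ev_append, ev_append, ev_reverse (n := 12) (fun s _ => lift_sq s) ps hps,
      show ev lift W = ev lift a * ev lift b by rw [← ev_append, List.take_append_drop]]
    simp only [ps]
    group
  rw [e, ← onSheets_ev ps hps, ← onSheets_ev a ha, ← map_mul, ← map_inv]
  have := zpowers_normalised (ev gP ps * ev gP a)⁻¹ TT (Subgroup.mem_zpowers TT)
  rwa [map_inv, inv_inv] at this

theorem ker_toBase : ∀ y : P3, toBase y = 1 → onSheets y ∈ Subgroup.zpowers TT := by
  let C : Subgroup P3 := (Subgroup.zpowers TT).comap onSheets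
  have hC : C.Normal := ⟨fun x hx y => by
    show onSheets (y * x * y⁻¹) ∈ Subgroup.zpowers TT
    rw [map_mul, map_mul, map_inv]
    exact zpowers_normalised y _ hx⟩
  have hrel : ∀ r ∈ Spor.coxRelators Spor.Fi24.edges ∪ {r | r ∈ Spor.Fi24.extra},
      FreeGroup.lift (fun a => (QuotientGroup.mk' C (PresentedGroup.of a))) r = 1 := by
    intro r hr
    have e : FreeGroup.lift (fun a => (QuotientGroup.mk' C (PresentedGroup.of a))) =
        (QuotientGroup.mk' C).comp (PresentedGroup.mk (Spor.coxRelators Spor.Fi24.edges ∪ {r | r ∈ e7Rel})) :=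
      FreeGroup.ext_hom _ _ fun a => by rw [FreeGroup.lift_apply_of]; rfl
    rw [e, MonoidHom.comp_apply]
    by_cases hz : r ∈ Spor.coxRelators Spor.Fi24.edges ∪ {r | r ∈ e7Rel}
    · rw [PresentedGroup.one_of_mem hz, map_one]
    · have h := zWord_ok
      simp only [Bool.and_eq_true, beq_iff_eq] at h
      have hr' : r ∈ Spor.Fi24.extra.drop 1 := by
        rcases hr with hr | hr
        · exact absurd (Or.inl hr) hz
        · have hr2 : r ∈ Spor.Fi24.extra.take 1 ++ Spor.Fi24.extra.drop 1 := by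
            rw [List.take_append_drop]; exact hr
          exact (List.mem_append.1 hr2).resolve_left fun h => hz (Or.inr h)
      have hl : letters Fi24Up.num r = zWord :=
        List.mem_singleton.1 (h.1.1 ▸ List.mem_map_of_mem (f := letters Fi24Up.num) hr')
      have hzl : ∀ s ∈ zWord, s < 12 := fun s hs => Nat.le_of_ble_eq_true (List.all_eq_true.1 h.1.2 s hs)
      rw [QuotientGroup.mk'_apply, QuotientGroup.eq_one_iff]
      show (onSheets.comp (PresentedGroup.mk _)) r ∈ Subgroup.zpowers TT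
      rw [map_ev (onSheets.comp (PresentedGroup.mk _)) lift Fi24Up.num (fun a => PresentedGroup.toGroup.of lift_rels)
        (fun a => lift_sq _) r, hl]
      exact zWord_image
  let back : Spor.Fi24 →* P3 ⧸ C := PresentedGroup.toGroup hrel
  have hcomp : back.comp toBase = QuotientGroup.mk' C := PresentedGroup.ext fun a => by
    rw [MonoidHom.comp_apply, show toBase (PresentedGroup.of a) = PresentedGroup.of a from
      PresentedGroup.toGroup.of base_rels]
    exact PresentedGroup.toGroup.of hrel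
  intro y hy
  have := congrArg (fun f : P3 →* P3 ⧸ C => f y) hcomp
  rw [MonoidHom.comp_apply, hy, map_one] at this
  exact (QuotientGroup.eq_one_iff y).1 this.symm

/-- The presented group on the sheets and in Fi₂₄. -/
noncomputable def both : P3 →* Equiv.Perm Yp × Spor.Fi24 := onSheets.prod toBase

/-- The group over Fi₂₄ with a kernel of order three. -/
abbrev Gam : Type := ↥both.range

/-- The map onto Fi₂₄. -/
noncomputable def down3 : Gam →* Spor.Fi24 := (MonoidHom.snd _ _).comp both.range.subtype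

/-- A generator. -/
noncomputable def gam (s : ℕ) : Gam := both.rangeRestrict (gP s)

/-- The generator of the kernel. -/
noncomputable def tt : Gam := both.rangeRestrict (ev gP fW)

theorem tt_coe : (tt : Equiv.Perm Yp × Spor.Fi24) = (TT, 1) :=
  Prod.ext (onSheets_ev fW fW_lt) ((toBase_ev fW fW_lt).trans fW_trivial)

theorem gam_sq {s : ℕ} (hs : s < 12) : gam s * gam s = 1 :=
  Subtype.ext (Prod.ext
    (show onSheets (gP s) * onSheets (gP s) = 1 by rw [onSheets_gP hs, lift_sq])
    (show toBase (gP s) * toBase (gP s) = 1 by rw [toBase_gP hs, Fi24Up.g_sq]))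

theorem tt_cube : tt ^ 3 = 1 := Subtype.ext (by rw [Subgroup.coe_pow, tt_coe, Prod.pow_mk, TT_cube, one_pow]; rfl)

theorem tt_ne_one : tt ≠ 1 := fun h => TT_ne_one (by
  have := congrArg (fun x : Gam => (x : Equiv.Perm Yp × Spor.Fi24).1) h
  simpa [tt_coe] using this)

theorem tt_inverted {s : ℕ} (hs : s < 12) : gam s * tt * gam s = tt⁻¹ := by
  refine Subtype.ext (Prod.ext ?_ ?_)
  · show onSheets (gP s) * (tt : Equiv.Perm Yp × Spor.Fi24).1 * onSheets (gP s) = (tt : Equiv.Perm Yp × Spor.Fi24).1⁻¹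
    rw [tt_coe, onSheets_gP hs]
    exact TT_inverted hs
  · show toBase (gP s) * (tt : Equiv.Perm Yp × Spor.Fi24).2 * toBase (gP s) = (tt : Equiv.Perm Yp × Spor.Fi24).2⁻¹
    rw [tt_coe, toBase_gP hs, mul_one, inv_one, Fi24Up.g_sq]

theorem down3_surjective : Function.Surjective down3 := fun y => by
  obtain ⟨p, rfl⟩ := toBase_surjective y
  exact ⟨both.rangeRestrict p, rfl⟩

theorem down3_ker : down3.ker = Subgroup.zpowers tt := by
  refine le_antisymm ?_ ((Subgroup.zpowers_le).2 (MonoidHom.mem_ker.2 (by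
    show (tt : Equiv.Perm Yp × Spor.Fi24).2 = 1
    rw [tt_coe])))
  rintro ⟨_, p, rfl⟩ h
  obtain ⟨n, hn⟩ := ker_toBase p h
  refine ⟨n, Subtype.ext ?_⟩
  show ((tt ^ n : Gam) : Equiv.Perm Yp × Spor.Fi24) = both p
  rw [Subgroup.coe_zpow, tt_coe]
  exact Prod.ext hn ((one_zpow n).trans (show (1 : Spor.Fi24) = toBase p from h.symm))

theorem gam_closure : Subgroup.closure {x | ∃ s < 12, gam s = x} = ⊤ := by
  rw [eq_top_iff, ← Subgroup.map_top_of_surjective both.rangeRestrict both.rangeRestrict_surjective, ← gP_closure,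
    MonoidHom.map_closure]
  refine Subgroup.closure_mono ?_
  rintro _ ⟨_, ⟨s, hs, rfl⟩, rfl⟩
  exact ⟨s, hs, rfl⟩

theorem gam_pairs {s t : ℕ} (hs : s < 12) (ht : t < 12) : (gam s * gam t) ^ lab s t = 1 := by
  refine Subtype.ext (Prod.ext ?_ ?_)
  · show (onSheets (gP s) * onSheets (gP t)) ^ lab s t = 1
    rw [onSheets_gP hs, onSheets_gP ht]
    exact pair_one hs ht
  · show (toBase (gP s) * toBase (gP t)) ^ lab s t = 1
    rw [toBase_gP hs, toBase_gP ht]
    have hd : ((List.range 12).all fun s => (List.range 12).all fun t =>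
        derivedOk 12 Fi24Up.words (pairW s t)) = true := by decide +kernel
    have := ev_derived (fun u _ => Fi24Up.g_sq u) Fi24Up.g_words
      (List.all_eq_true.1 (List.all_eq_true.1 hd s (List.mem_range.2 hs)) t (List.mem_range.2 ht))
    rw [pairW, ev_power] at this
    simpa [ev] using this

theorem adjacent_mem {s t : ℕ} (hs : s < 12) (ht : t < 12) (h : lab s t = 3) :
    gam s * gam t ∈ commutator Gam := by
  have e := gam_pairs hs ht
  rw [h] at e
  have hi : ∀ u < 12, (gam u)⁻¹ = gam u := fun u hu => inv_eq_of_mul_eq_one_left (gam_sq hu)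
  have : gam s * gam t = ⁅gam s, gam t⁆⁻¹ := by
    rw [commutatorElement_def, hi s hs, hi t ht, eq_inv_iff_mul_eq_one]
    simpa only [pow_succ, pow_zero, one_mul, mul_assoc] using e
  rw [this]
  exact inv_mem (Subgroup.commutator_mem_commutator (Subgroup.mem_top _) (Subgroup.mem_top _))

theorem even_mem {s : ℕ} (hs : s < 12) : gam s * gam 0 ∈ commutator Gam := by
  have step : ∀ a b, a < 12 → b < 12 → lab a b = 3 → gam b * gam 0 ∈ commutator Gam →
      gam a * gam 0 ∈ commutator Gam := fun a b ha hb h hb0 => by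
    have := mul_mem (adjacent_mem ha hb h) hb0
    rwa [mul_assoc, ← mul_assoc (gam b) (gam b), gam_sq hb, one_mul] at this
  have h0 : gam 0 * gam 0 ∈ commutator Gam := by rw [gam_sq (by norm_num)]; exact one_mem _
  have h1 := step 1 0 (by norm_num) (by norm_num) rfl h0
  have h2 := step 2 1 (by norm_num) (by norm_num) rfl h1
  have h3 := step 3 2 (by norm_num) (by norm_num) rfl h2
  have h4 := step 4 3 (by norm_num) (by norm_num) rfl h3
  have h5 := step 5 4 (by norm_num) (by norm_num) rfl h4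
  have h6 := step 6 5 (by norm_num) (by norm_num) rfl h5
  have h7 := step 7 6 (by norm_num) (by norm_num) rfl h6
  have h8 := step 8 7 (by norm_num) (by norm_num) rfl h7
  have h9 := step 9 8 (by norm_num) (by norm_num) rfl h8
  have h10 := step 10 5 (by norm_num) (by norm_num) rfl h5
  have h11 := step 11 10 (by norm_num) (by norm_num) rfl h10
  interval_cases s <;> assumption

theorem pair_mem_commutator {s t : ℕ} (hs : s < 12) (ht : t < 12) : gam s * gam t ∈ commutator Gam := by
  have := mul_mem (even_mem hs) (inv_mem (even_mem ht))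
  rwa [mul_inv_rev, mul_assoc, ← mul_assoc (gam 0), mul_inv_cancel, one_mul,
    inv_eq_of_mul_eq_one_left (gam_sq ht)] at this

theorem commutator_central {x : Gam} (hx : x ∈ commutator Gam) : Commute x tt := by
  have key : ∀ a : Gam, a * tt * a⁻¹ = tt ∨ a * tt * a⁻¹ = tt⁻¹ := by
    intro a
    have ha : a ∈ Subgroup.closure {x | ∃ s < 12, gam s = x} := gam_closure ▸ Subgroup.mem_top a
    have hg : ∀ s < 12, ∀ y : Gam, (y = tt ∨ y = tt⁻¹) → gam s * y * gam s = tt ∨ gam s * y * gam s = tt⁻¹ := by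
      rintro s hs y (rfl | rfl)
      · exact Or.inr (tt_inverted hs)
      · refine Or.inl ?_
        rw [← tt_inverted hs, mul_assoc, mul_assoc, mul_assoc, gam_sq hs, mul_one, ← mul_assoc, gam_sq hs, one_mul]
    induction ha using Subgroup.closure_induction_left with
    | one => exact Or.inl (by simp)
    | mul_left b hb c _ ih =>
      obtain ⟨s, hs, rfl⟩ := hb
      have := hg s hs _ ih
      rw [mul_inv_rev, inv_eq_of_mul_eq_one_left (gam_sq hs)]
      simpa only [mul_assoc] using this
    | inv_mul_cancel b hb c _ ih =>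
      obtain ⟨s, hs, rfl⟩ := hb
      have := hg s hs _ ih
      rw [mul_inv_rev, inv_eq_of_mul_eq_one_left (gam_sq hs), inv_eq_of_mul_eq_one_left (gam_sq hs)]
      simpa only [mul_assoc] using this
  have hle : commutator Gam ≤ Subgroup.centralizer {tt} := by
    rw [commutator_def, Subgroup.commutator_le]
    intro a _ b _
    rw [Subgroup.mem_centralizer_singleton_iff, ← mul_inv_eq_iff_eq_mul]
    have hinv : ∀ c : Gam, c * tt⁻¹ * c⁻¹ = (c * tt * c⁻¹)⁻¹ := fun c => by group
    have hb' : b⁻¹ * tt * b = b * tt * b⁻¹ := by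
      rcases key b with e | e <;> rw [e]
      · conv_lhs => rw [← e]
        group
      · have e' : b * tt⁻¹ * b⁻¹ = tt := by rw [hinv, e, inv_inv]
        conv_lhs => rw [← e']
        group
    have ha' : a⁻¹ * tt * a = a * tt * a⁻¹ := by
      rcases key a with e | e <;> rw [e]
      · conv_lhs => rw [← e]
        group
      · have e' : a * tt⁻¹ * a⁻¹ = tt := by rw [hinv, e, inv_inv]
        conv_lhs => rw [← e']
        group
    calc ⁅a, b⁆ * tt * ⁅a, b⁆⁻¹ = a * (b * (a⁻¹ * (b⁻¹ * tt * b) * a) * b⁻¹) * a⁻¹ := by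
          rw [commutatorElement_def]; group
      _ = tt := by
        rw [hb']
        rcases key b with e | e <;> rw [e]
        · rw [ha']
          rcases key a with f | f <;> rw [f]
          · rw [e, f]
          · rw [hinv, e, hinv, f, inv_inv]
        · rw [show a⁻¹ * tt⁻¹ * a = (a⁻¹ * tt * a)⁻¹ by group, ha']
          rcases key a with f | f <;> rw [f]
          · rw [hinv, e, inv_inv, f]
          · rw [inv_inv, e, hinv, f, inv_inv]
  exact Subgroup.mem_centralizer_singleton_iff.1 (hle hx)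

theorem perfect_base : commutator Spor.Fi24' = ⊤ := by
  obtain ⟨hs, hc⟩ := Fi24Up.isFi24'
  haveI := hs
  refine (inferInstance : (commutator Spor.Fi24').Normal).eq_bot_or_eq_top.resolve_left fun h => ?_
  letI : CommGroup Spor.Fi24' :=
    { (inferInstance : Group Spor.Fi24') with
      mul_comm := fun a b => commutatorElement_eq_one_iff_mul_comm.1
        (Subgroup.mem_bot.1 (h ▸ Subgroup.commutator_mem_commutator (Subgroup.mem_top a) (Subgroup.mem_top b))) }
  haveI : Finite Spor.Fi24' := Nat.finite_of_card_ne_zero (by rw [hc]; norm_num)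
  have hp := IsSimpleGroup.prime_card (α := Spor.Fi24')
  rw [hc] at hp
  exact absurd (hp.eq_two_or_odd) (by norm_num)

theorem map_commutator_down3 : (commutator Gam).map down3 = commutator Spor.Fi24 := by
  rw [commutator_def, Subgroup.map_commutator, Subgroup.map_top_of_surjective _ down3_surjective, commutator_def]

theorem tt_mem_commutator : tt ∈ commutator Gam := by
  have e : tt = ⁅gam 0, tt⁆ := by
    have hi : (gam 0)⁻¹ = gam 0 := inv_eq_of_mul_eq_one_left (gam_sq (by norm_num))
    rw [commutatorElement_def, hi, tt_inverted (by norm_num)]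
    calc tt = tt ^ 3 * (tt⁻¹ * tt⁻¹) := by group
      _ = _ := by rw [tt_cube, one_mul]
  rw [e]
  exact Subgroup.commutator_mem_commutator (Subgroup.mem_top _) (Subgroup.mem_top _)

theorem map_subtype_commutator {A : Type*} [Group A] (S : Subgroup A) :
    (commutator ↥S).map S.subtype = ⁅S, S⁆ := by
  rw [commutator_def, Subgroup.map_commutator, ← MonoidHom.range_eq_map, Subgroup.range_subtype]

theorem tt_mem_second : tt ∈ ⁅commutator Gam, commutator Gam⁆ := by
  set N := ⁅commutator Gam, commutator Gam⁆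
  have himg : N.map down3 = commutator Spor.Fi24 := by
    rw [Subgroup.map_commutator, map_commutator_down3]
    exact ((map_subtype_commutator (commutator Spor.Fi24)).symm.trans
      (congrArg (Subgroup.map (commutator Spor.Fi24).subtype) perfect_base)).trans
      (by rw [← MonoidHom.range_eq_map, Subgroup.range_subtype])
  have hdec : ∀ x ∈ commutator Gam, ∃ k : ℤ, QuotientGroup.mk' N x = QuotientGroup.mk' N tt ^ k := by
    intro x hx
    obtain ⟨n, hn, e⟩ : down3 x ∈ N.map down3 := himg ▸ map_commutator_down3 ▸ ⟨x, hx, rfl⟩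
    obtain ⟨k, hk⟩ := down3_ker ▸ (MonoidHom.mem_ker.2 (show down3 (n⁻¹ * x) = 1 by
      rw [map_mul, map_inv, e, inv_mul_cancel]))
    refine ⟨k, ?_⟩
    rw [← map_zpow, show x = n * (n⁻¹ * x) by group, map_mul, show n⁻¹ * x = tt ^ k from hk.symm,
      show QuotientGroup.mk' N n = 1 from (QuotientGroup.eq_one_iff n).2 hn, one_mul]
  have same : ∀ s t, s < 12 → t < 12 → lab s t = 2 →
      QuotientGroup.mk' N (gam s) = QuotientGroup.mk' N (gam t) := by
    intro s t hs ht h
    obtain ⟨k, hk⟩ := hdec _ (pair_mem_commutator hs ht)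
    have h3 : (QuotientGroup.mk' N tt ^ k) ^ (3 : ℕ) = 1 := by
      rw [← zpow_natCast, ← zpow_mul, mul_comm, zpow_mul, zpow_natCast, ← map_pow, tt_cube, map_one, one_zpow]
    have h2 : (QuotientGroup.mk' N tt ^ k) ^ (2 : ℕ) = 1 := by
      rw [← hk, ← map_pow, ← h, gam_pairs hs ht, map_one]
    rw [pow_succ, h2, one_mul] at h3
    rw [h3, map_mul] at hk
    rw [eq_inv_of_mul_eq_one_left hk, ← map_inv, inv_eq_of_mul_eq_one_left (gam_sq ht)]
  have all : ∀ s < 12, QuotientGroup.mk' N (gam s) = QuotientGroup.mk' N (gam 0) := by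
    intro s hs
    have h5 : QuotientGroup.mk' N (gam 5) = QuotientGroup.mk' N (gam 0) :=
      same 5 0 (by norm_num) (by norm_num) rfl
    interval_cases s
    · rfl
    · exact (same 1 5 (by norm_num) (by norm_num) rfl).trans h5
    all_goals exact same _ 0 (by norm_num) (by norm_num) rfl
  have hev : ∀ w : List ℕ, (∀ s ∈ w, s < 12) →
      QuotientGroup.mk' N (both.rangeRestrict (ev gP w)) = QuotientGroup.mk' N (gam 0) ^ w.length := by
    intro w
    induction w with
    | nil => intro _; simp [ev]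
    | cons s w ih =>
      intro h
      rw [ev, map_mul, map_mul, ih fun t ht => h t (List.mem_cons_of_mem _ ht), List.length_cons, pow_succ',
        ← show gam s = both.rangeRestrict (gP s) from rfl, all s (h s (List.mem_cons_self ..))]
  refine (QuotientGroup.eq_one_iff tt).1 ?_
  show QuotientGroup.mk' N tt = 1
  rw [show tt = both.rangeRestrict (ev gP fW) from rfl, hev fW fW_lt, ← Nat.div_add_mod fW.length 2, fW_even,
    add_zero, pow_mul, pow_two, ← map_mul, gam_sq (by norm_num), map_one, one_pow]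

theorem exists_cover : ∃ (Δ : Type) (_ : Group Δ) (_ : Finite Δ) (q : Δ →* Spor.Fi24'),
    Cfsg.IsStemExtension q ∧ Nonempty (q.ker ≃* Multiplicative (ZMod 3)) := by
  haveI := base_finite
  haveI : Finite Gam := inferInstance
  let q : ↥(commutator Gam) →* Spor.Fi24' :=
    (down3.comp (commutator Gam).subtype).codRestrict _ fun x => map_commutator_down3 ▸ ⟨x, x.2, rfl⟩
  let t' : ↥(commutator Gam) := ⟨tt, tt_mem_commutator⟩
  have hker : q.ker = Subgroup.zpowers t' := by
    ext x
    rw [MonoidHom.mem_ker]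
    constructor
    · intro h
      obtain ⟨k, hk⟩ := down3_ker.le (MonoidHom.mem_ker.2 (congrArg Subtype.val h : down3 (x : Gam) = 1))
      exact ⟨k, Subtype.ext (by rw [Subgroup.coe_zpow]; exact hk)⟩
    · rintro ⟨k, rfl⟩
      refine Subtype.ext ?_
      show down3 ((t' ^ k : ↥(commutator Gam)) : Gam) = 1
      rw [Subgroup.coe_zpow, map_zpow, show down3 (t' : Gam) = 1 from
        MonoidHom.mem_ker.1 (down3_ker.ge (Subgroup.mem_zpowers tt)), one_zpow]
  refine ⟨↥(commutator Gam), inferInstance, inferInstance, q, ⟨?_, ?_, ?_⟩, ?_⟩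
  · intro y
    obtain ⟨x, hx, e⟩ : (y : Spor.Fi24) ∈ (commutator Gam).map down3 := map_commutator_down3.symm ▸ y.2
    exact ⟨⟨x, hx⟩, Subtype.ext e⟩
  · rw [hker, Subgroup.zpowers_le, Subgroup.mem_center_iff]
    exact fun x => Subtype.ext (commutator_central x.2).eq
  · rw [hker, Subgroup.zpowers_le]
    have h := tt_mem_second
    rw [← map_subtype_commutator] at h
    obtain ⟨x, hx, ex⟩ := h
    rwa [show t' = x from Subtype.ext ex.symm]
  · haveI : Fact (Nat.Prime 3) := ⟨Nat.prime_three⟩
    have hc : Nat.card q.ker = 3 := by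
      rw [hker, Nat.card_zpowers]
      exact orderOf_eq_prime (Subtype.ext (by rw [Subgroup.coe_pow]; exact tt_cube))
        fun h => tt_ne_one (congrArg Subtype.val h)
    exact ⟨mulEquivOfPrimeCardEq (p := 3) hc (by simp)⟩

end Cfsg.Agent.Spor.Cos.Fi24Mult
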