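import Cfsg.Agent.Lib.Spor.Cos.Fi24Mult.Fast
import Cfsg.Agent.Lib.Spor.Cos.Fi24Mult.Data.ShT

/-!
Three sheets over the 306936 points of the model of Fi₂₄: the sheet `j` over `x` has the number `3 x + j`,
and a generator sends it over the image of `x` to the sheet `c - j`, where `c` is the shift at `x`.
-/

set_option autoImplicit false

namespace Cfsg.Agent.Spor.Cos.Fi24Mult

open Cfsg.Agent.Fus.Fi24Model (M)

/-- The code of a point. -/
noncomputable def code (x : ℕ) : ℕ := fld shT.tree 8 255 5 0 31 x

/-- The shift of a generator at a point, from the code of the point. -/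
noncomputable def shOf (s c : ℕ) : ℕ :=
  Bool.rec (motive := fun _ => ℕ) 0 (Nat.add 1 (Nat.land c 1)) (Nat.beq (Nat.shiftRight c 1) (Nat.add s 1))

/-- The shift of a generator at a point; none for the first generator. -/
noncomputable def sh (s x : ℕ) : ℕ :=
  Bool.rec (motive := fun _ => ℕ) (force (code x) fun c => shOf s c) 0 (Nat.beq s 0)

/-- A generator on the sheets. -/
noncomputable def im3 (s e : ℕ) : ℕ :=
  force (Nat.div e 3) fun x => force (imF s x) fun y =>
    Nat.add (Nat.mul 3 y) (Nat.mod (Nat.sub (Nat.add (sh s x) 3) (Nat.mod e 3)) 3)

/-- Apply a word to a sheet, its last letter first. -/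
noncomputable def go3 (w : List ℕ) (e : ℕ) : ℕ :=
  List.rec (motive := fun _ => ℕ) e (fun s _ r => force r fun q => im3 s q) w

/-- A word fixes the first sheet over a point. -/
noncomputable def fixes (w : List ℕ) (x : ℕ) : Bool := force (3 * x) fun e => Nat.beq (go3 w e) e

/-- The edges of the diagram, the pair `s, t` in the bit `12 * s + t`. -/
def adjMask : ℕ := 0x4008201002801400a045002801400a005002

/-- The label of a pair of generators. -/
def lab (s t : ℕ) : ℕ :=
  bif Nat.beq s t then 1 else bif Nat.beq ((adjMask >>> (12 * s + t)) % 2) 1 then 3 else 2

/-- The word of the relator of a pair of generators. -/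
def pairW (s t : ℕ) : List ℕ := (List.replicate (lab s t) [s, t]).flatten

/-- The word of the relator of E₇. -/
def e7W : List ℕ := 0 :: (List.replicate 9 [2, 3, 4, 5, 6, 7, 10]).flatten

/-- The letters of the relator of E₇, as bits. -/
def e7Mask : ℕ := 1277

/-- A pair of generators at a point `x` with the code `c` of the first of them, the second with the image `z`:
if they commute, `z` has the code of the first with the other shift; if not, their relator fixes the sheets. -/
noncomputable def chkP (s t x c z : ℕ) : Bool :=
  bif Nat.beq (lab s t) 3 then fixes (pairW s t) x else Nat.beq (code z) (Nat.xor c 1)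

/-- The code names a letter of the relator of E₇. -/
noncomputable def inE7 (c : ℕ) : Bool := Nat.ble 2 c && Nat.beq ((e7Mask >>> (c / 2 - 1)) % 2) 1

/-- Some letter of the relator of E₇ makes a point smaller and keeps a code of such a letter, or the relator
fixes the sheets over the point. -/
noncomputable def chkE (x c : ℕ) : Bool :=
  bif inE7 c then [0, 2, 3, 4, 5, 6, 7, 10].any (fun t => force (imF t x) fun z =>
    Nat.blt z x && force (code z) inE7) || fixes e7W x else true

/-- The code of a point names a generator, the image has the same code, and over the smaller of the two points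
the relators hold on the sheets. -/
noncomputable def chkX (x : ℕ) : Bool :=
  force (code x) fun c => Nat.beq c 0 || (Nat.ble 4 c && Nat.blt c 26 && force (c / 2 - 1) fun s =>
    force (imF s x) fun y => Nat.beq (code y) c && (Nat.blt y x || (chkE x c &&
      (List.range 12).all fun t => Nat.beq t s || force (imF t x) fun z => chkP s t x c z)))

end Cfsg.Agent.Spor.Cos.Fi24Mult
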