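import Cfsg.Agent.Lib.Spor.Cos.Fi24Mult.Facts

/-!
Extensions of Fi24 with lifts of the generators: the relators without k hold exactly, and when all relators but the
last hold, the last one has order dividing a number read off the stabiliser of the coset of k.
-/

set_option autoImplicit false
set_option maxRecDepth 100000
set_option maxHeartbeats 4000000

open Cfsg Cfsg.Spor

namespace Cfsg.Agent.Spor.Cos.Fi24Mult

open Fi24Up

/-- An extension with commutative kernel centralised by the even elements, with lifts of Fi23, l and k. -/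
structure Ext (Γ : Type) [Group Γ] where
  /-- the projection -/
  p : Γ →* Spor.Fi24
  /-- the lift of Fi23 -/
  s : Spor.Fi23 →* Γ
  /-- the lift of l -/
  L : Γ
  /-- the lift of k -/
  K : Γ
  p_s : ∀ f, p (s f) = phi f
  p_L : p L = g 0
  p_K : p K = g 1
  L_sq : L * L = 1
  K_sq : K * K = 1
  L_comm : ∀ f, Commute L (s f)
  even_comm : ∀ x z, sgn (p x) = 1 → p z = 1 → Commute x z

/-- The relators but the last. -/
def coxWords : List (List ℕ) := words.dropLast

/-- The last relator. -/
def spiderWord : List ℕ := words.getLastD []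

namespace Ext

variable {Γ : Type} [Group Γ] (E : Ext Γ)

/-- The lifts of the generators. -/
noncomputable def T (i : ℕ) : Γ :=
  if i = 0 then E.L else if i = 1 then E.K else if i < 12 then E.s (Fi23.g (i - 2)) * E.L else 1

theorem T_zero : E.T 0 = E.L := rfl

theorem T_one : E.T 1 = E.K := rfl

theorem T_add {s : ℕ} (hs : s < 10) : E.T (s + 2) = E.s (Fi23.g s) * E.L := by
  simp [T, show s + 2 < 12 by omega]

theorem T_sq (i : ℕ) : E.T i * E.T i = 1 := by
  unfold T
  split_ifs
  · exact E.L_sq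
  · exact E.K_sq
  · rw [mul_assoc, ← mul_assoc E.L, (E.L_comm _).eq, mul_assoc, E.L_sq, mul_one, ← map_mul,
      Fi23.g_sq, map_one]
  · exact one_mul _

theorem T_inv (i : ℕ) : (E.T i)⁻¹ = E.T i := inv_eq_of_mul_eq_one_left (E.T_sq i)

theorem p_T (i : ℕ) : E.p (E.T i) = g i := by
  unfold T
  split_ifs with h0 h1 h
  · rw [h0]; exact E.p_L
  · rw [h1]; exact E.p_K
  · rw [map_mul, E.p_s, E.p_L, phi_g, sigma, if_pos (by omega), show i - 2 + 2 = i by omega, mul_assoc, g_sq,
      mul_one]
  · rw [map_one, g]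
    rcases Pres.gen_cases (edges := Spor.Fi24.edges) (extra := Spor.Fi24.extra) (A := alph) i with e | ⟨a, e, -⟩
    · exact e.symm
    · exact absurd (List.getElem?_eq_some_iff.1 e).1 h

theorem p_ev (w : List ℕ) : E.p (ev E.T w) = ev g w := by
  rw [ev_map]
  exact congrArg (ev · w) (funext E.p_T)

theorem ev_rev (w : List ℕ) : ev E.T w.reverse = (ev E.T w)⁻¹ :=
  ev_reverse (n := w.sum + 1) (fun s _ => E.T_sq s) w fun _ hs => Nat.lt_succ_of_le (List.le_sum_of_mem hs)

/-- The subgroup of the lifts of the generators other than k. -/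
def C0 : Subgroup Γ where
  carrier := {x | ∃ f, ∃ n : ℕ, x = E.s f * E.L ^ n}
  one_mem' := ⟨1, 0, by simp⟩
  mul_mem' := by
    rintro a b ⟨f, n, rfl⟩ ⟨f', n', rfl⟩
    refine ⟨f * f', n + n', ?_⟩
    rw [map_mul, pow_add, mul_assoc, ← mul_assoc (E.L ^ n), ((E.L_comm f').pow_left n).eq, mul_assoc, ← mul_assoc]
  inv_mem' := by
    rintro a ⟨f, n, rfl⟩
    refine ⟨f⁻¹, n, ?_⟩
    rw [mul_inv_rev, map_inv, ← inv_pow, inv_eq_of_mul_eq_one_left E.L_sq]
    exact ((E.L_comm f).pow_left n).inv_right.eq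

theorem eq_one_of_C0 {x : Γ} (hx : x ∈ E.C0) (hp : E.p x = 1) : x = 1 := by
  obtain ⟨f, n, rfl⟩ := hx
  rw [map_mul, map_pow, E.p_s, E.p_L] at hp
  have h := congrArg sgn hp
  rw [map_mul, map_pow, sgn_phi, sgn_g (by omega), one_mul, map_one] at h
  rcases Nat.even_or_odd n with ⟨m, rfl⟩ | hn
  · rw [l_pow_even (by omega), mul_one] at hp
    rw [phi_injective (hp.trans (map_one phi).symm), map_one, one_mul, ← two_mul, pow_mul, pow_two, E.L_sq, one_pow]
  · rw [hn.neg_one_pow] at h
    exact absurd h (by decide)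

theorem ev_eq : ∀ w : List ℕ, okH w = true → ev E.T w = E.s (ev Fi23.g (down w)) * E.L ^ w.length
  | [], _ => by simp [ev, down]
  | s :: w, h => by
    have hw : okH w = true := by
      simp only [okH, List.all_cons, Bool.and_eq_true] at h
      exact h.2
    show E.T s * ev E.T w = _
    rw [ev_eq w hw]
    rcases lt_of_okH h (List.mem_cons_self ..) with rfl | ⟨h2, h12⟩
    · rw [show down (0 :: w) = down w from rfl, List.length_cons, pow_succ', ← mul_assoc, ← mul_assoc,
        E.T_zero, (E.L_comm _).eq]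
    · obtain ⟨u, rfl⟩ := Nat.exists_eq_add_of_le h2
      have e : down ((2 + u) :: w) = u :: down w := by
        simp only [down]
        rw [List.filter_cons_of_pos (by
          simp only [Bool.not_eq_true', ← Bool.not_eq_true, Nat.beq_eq]; omega), List.map_cons,
          show 2 + u - 2 = u by omega]
      rw [e, ev, map_mul, show 2 + u = u + 2 by omega, E.T_add (by omega), List.length_cons, pow_succ',
        mul_assoc, mul_assoc, ← mul_assoc E.L (E.s _), (E.L_comm _).eq]
      simp only [mul_assoc]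

theorem mem_C0 {w : List ℕ} (h : okH w = true) : ev E.T w ∈ E.C0 := ⟨_, _, E.ev_eq w h⟩

theorem exact_H {w : List ℕ} (h : okH w = true) (h1 : ev g w = 1) : ev E.T w = 1 :=
  E.eq_one_of_C0 (E.mem_C0 h) ((E.p_ev w).trans h1)

/-- The relators but the last hold for the lifts. -/
def Cox : Prop := ∀ w ∈ coxWords, ev E.T w = 1

theorem cox_of (h01 : (E.L * E.K) ^ 3 = 1) (h12 : (E.K * E.T 2) ^ 3 = 1)
    (h1 : ∀ s, 3 ≤ s → s < 12 → Commute E.K (E.T s)) : E.Cox := by
  intro w hw
  have hc : (coxWords.all fun w => okH w || w == [0, 1, 0, 1, 0, 1] || w == [1, 2, 1, 2, 1, 2] ||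
      (List.range 9).any fun s => w == [1, s + 3, 1, s + 3]) = true := by decide +kernel
  have h := List.all_eq_true.1 hc w hw
  simp only [Bool.or_eq_true, beq_iff_eq, List.any_eq_true, List.mem_range] at h
  rcases h with ((h | rfl) | rfl) | ⟨s, hs, rfl⟩
  · exact E.exact_H h (g_words w (List.dropLast_subset _ hw))
  · simpa [ev, E.T_zero, E.T_one, pow_succ, mul_assoc] using h01
  · simpa [ev, E.T_one, pow_succ, mul_assoc] using h12
  · have hh := (h1 (s + 3) (by omega) (by omega)).eq
    simp only [ev, mul_one, E.T_one]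
    rw [← mul_assoc (E.T (s + 3)), ← hh, mul_assoc E.K, E.T_sq, mul_one, E.K_sq]

variable {E}

theorem Cox.K_comm (hC : E.Cox) {w : List ℕ} (h : (w.all fun s => kLetters.contains s) = true) :
    Commute E.K (ev E.T w) := by
  induction w with
  | nil => exact Commute.one_right _
  | cons s w ih =>
    simp only [List.all_cons, Bool.and_eq_true] at h
    refine Commute.mul_right ?_ (ih h.2)
    have hc : (kLetters.all fun t => coxWords.contains [1, t, 1, t]) = true := by decide +kernel
    have e := hC _ (List.contains_iff_mem.1 (List.all_eq_true.1 hc s (List.contains_iff_mem.1 h.1)))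
    simp only [ev, mul_one, ← mul_assoc, E.T_one] at e
    show E.K * E.T s = E.T s * E.K
    rw [mul_assoc (E.K * E.T s)] at e
    rw [eq_inv_of_mul_eq_one_left e, mul_inv_rev, E.T_inv, inv_eq_of_mul_eq_one_left E.K_sq]

theorem Cox.loop (hC : E.Cox) {w : List ℕ} (h : isLoop w = true) : ev E.T w ∈ E.C0 := by
  obtain ⟨x, hx, e⟩ := List.any_eq_true.1 h
  rw [← beq_iff_eq.1 e]
  have hc : (loops.all fun x => t1080.walk t1080.nF 0 x.1.length x.2 0 x.1) = true := by decide +kernel
  have hw := List.all_eq_true.1 hc x hx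
  have hi : ∀ s < t1080.n, E.T (subLetters.getD s 12) * E.T (subLetters.getD s 12) = 1 := fun s _ => E.T_sq _
  have hbase : ∀ w ∈ t1080Base, ev E.T (w.map fun i => subLetters.getD i 12) = 1 :=
    hbase_of E.T_sq hC (n := 12) (by decide +kernel)
  have hrels : ∀ r ∈ t1080.rels, ev (fun i => E.T (subLetters.getD i 12)) r = 1 := fun r hr =>
    ev_derived hi (fun x hx => (ev_reletter subLetters 12 x).trans (hbase x hx))
      (List.all_eq_true.1 t1080_derived r hr)
  have hsub : ∀ v ∈ t1080.sub, ev (fun i => E.T (subLetters.getD i 12)) v ∈ E.C0 := fun v hv => by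
    have hd : (t1080.sub.all fun u => okH (sub u)) = true := by decide +kernel
    rw [ev_reletter]
    exact E.mem_C0 (List.all_eq_true.1 hd v hv)
  have := t1080.loop_mem (g := fun i => E.T (subLetters.getD i 12)) hi t1080_checks.defs t1080_checks.facts hrels
    hsub hw
  rwa [ev_reletter] at this

theorem Cox.rho_mem (hC : E.Cox) :
    E.K * ev E.T rho * E.K * (ev E.T kap)⁻¹ * (ev E.T rho)⁻¹ * E.K ∈ E.C0 := by
  have h : isLoop ([1] ++ rho ++ [1] ++ kap.reverse ++ rho.reverse ++ [1]) = true := by decide +kernel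
  have := hC.loop h
  simpa only [ev_append, E.ev_rev, ev, mul_one, mul_assoc, E.T_one] using this

theorem exact_isOne {w : List ℕ} (h : isOne w = true) : ev E.T w = 1 := by
  have h' := h
  simp only [isOne, Bool.and_eq_true] at h'
  exact E.exact_H h'.1.1 (eq_one_of_isOne h)

theorem Cox.path (hC : E.Cox) : ∀ (L : List (List ℕ × List ℕ × List ℕ)) (h : List ℕ), chkSteps h L = true →
    E.K * ev E.T h * ev E.T (pathWord L) * (E.K * ev E.T (pathEnd h L))⁻¹ ∈ E.C0
  | [], h, _ => by
    simp only [pathWord, pathEnd, ev_append, mul_inv_rev]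
    group
    exact one_mem _
  | (seg, k1, k2) :: L, h, hc => by
    simp only [chkSteps, Bool.and_eq_true] at hc
    obtain ⟨⟨⟨⟨hs, h1⟩, h2⟩, he⟩, hrest⟩ := hc
    have ih := hC.path L _ hrest
    have e0 := exact_isOne (E := E) he
    simp only [ev_append, E.ev_rev] at e0
    have e : ev E.T h * ev E.T seg = ev E.T k1 * ev E.T rho * ev E.T k2 := by
      calc ev E.T h * ev E.T seg = (ev E.T h * ev E.T seg * (ev E.T k2)⁻¹ * (ev E.T rho)⁻¹ * (ev E.T k1)⁻¹) *
            (ev E.T k1 * ev E.T rho * ev E.T k2) := by group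
        _ = _ := by rw [e0, one_mul]
    have hk : (E.K)⁻¹ = E.K := inv_eq_of_mul_eq_one_left E.K_sq
    have key : E.K * ev E.T h * ev E.T seg * E.K * (E.K * ev E.T (rho ++ kap ++ k2))⁻¹ ∈ E.C0 := by
      have c1 := (hC.K_comm h1).eq
      have c2 := (hC.K_comm h2).eq
      have : E.K * ev E.T h * ev E.T seg * E.K * (E.K * ev E.T (rho ++ kap ++ k2))⁻¹ =
          ev E.T k1 * (E.K * ev E.T rho * E.K * (ev E.T kap)⁻¹ * (ev E.T rho)⁻¹ * E.K) := by
        rw [mul_assoc E.K (ev E.T h), e]
        simp only [ev_append, mul_inv_rev, hk]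
        calc E.K * (ev E.T k1 * ev E.T rho * ev E.T k2) * E.K *
              ((ev E.T k2)⁻¹ * ((ev E.T kap)⁻¹ * (ev E.T rho)⁻¹) * E.K)
            = (E.K * ev E.T k1) * ev E.T rho * ((ev E.T k2 * E.K) * (ev E.T k2)⁻¹) *
              ((ev E.T kap)⁻¹ * (ev E.T rho)⁻¹) * E.K := by group
          _ = (ev E.T k1 * E.K) * ev E.T rho * ((E.K * ev E.T k2) * (ev E.T k2)⁻¹) *
              ((ev E.T kap)⁻¹ * (ev E.T rho)⁻¹) * E.K := by rw [c1, c2]
          _ = ev E.T k1 * (E.K * ev E.T rho * E.K * (ev E.T kap)⁻¹ * (ev E.T rho)⁻¹ * E.K) := by group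
      rw [this]
      exact E.C0.mul_mem (E.mem_C0 (okH_of_k h1)) hC.rho_mem
    have := E.C0.mul_mem key ih
    simp only [pathWord, pathEnd, ev_append, ev, E.T_one] at this ⊢
    convert this using 1
    group

/-- A word in the letters fixing the coset of k, a power of which is trivial. -/
noncomputable def chkOrd (w : List ℕ) (m : ℕ) : Bool :=
  (w.all fun s => kLetters.contains s) && isOne ((List.replicate m (extraK ++ w)).flatten)

theorem p_spider : E.p (ev E.T spiderWord) = 1 := by
  rw [E.p_ev]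
  exact g_words _ (List.contains_iff_mem.1 (by decide +kernel))

/-- A power of the last relator is trivial, from an element fixing the coset of k. -/
theorem Cox.spider_pow (hC : E.Cox) {w : List ℕ} {m : ℕ} (h : chkOrd w m = true)
    (hcomm : ∀ x z, sgn (E.p x) = sgn (ev g (extraK ++ w)) → E.p z = 1 → Commute x z) :
    ev E.T spiderWord ^ m = 1 := by
  simp only [chkOrd, Bool.and_eq_true] at h
  obtain ⟨hw, hone⟩ := h
  set A := ev E.T ((pathWord pathSteps).take 1) with hA
  set R := ev E.T spiderWord with hR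
  have hz : ev E.T (pathWord pathSteps) = A * R * A⁻¹ := by
    have e : (pathWord pathSteps).drop 1 ++ (pathWord pathSteps).take 1 = spiderWord := by
      have : ((pathWord pathSteps).drop 1 ++ (pathWord pathSteps).take 1 == spiderWord) = true := by decide +kernel
      exact beq_iff_eq.1 this
    rw [hR, ← e, ev_append, ← hA]
    conv_lhs => rw [← List.take_append_drop 1 (pathWord pathSteps), ev_append, ← hA]
    group
  have hp := hC.path pathSteps pathStart (by decide +kernel)
  set S := ev E.T pathStart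
  set Z := S * ev E.T (pathWord pathSteps) * S⁻¹ with hZ
  set X := ev E.T extraK with hX
  set W := ev E.T w with hW
  have ek : extraK = pathEnd pathStart pathSteps ++ pathStart.reverse := by decide +kernel
  have heX : X = ev E.T (pathEnd pathStart pathSteps) * S⁻¹ := by rw [hX, ek, ev_append, E.ev_rev]
  have hk : (E.K)⁻¹ = E.K := inv_eq_of_mul_eq_one_left E.K_sq
  set c := E.K * Z * X⁻¹ * E.K with hc
  have hcm : c ∈ E.C0 := by
    rw [hc, hZ, heX]
    simpa [mul_inv_rev, hk, mul_assoc] using hp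
  set z := E.K * Z * E.K with hz1
  have hpz : E.p z = 1 := by
    rw [hz1, hZ, hz, map_mul, map_mul, map_mul, map_mul, map_mul, map_mul, hR, p_spider, mul_one, map_inv E.p A,
      mul_inv_cancel, mul_one, map_inv, mul_inv_cancel, mul_one, ← map_mul, E.K_sq, map_one]
  have hu : E.K * X * E.K = c⁻¹ * z := by
    rw [hc, hz1]
    simp only [mul_inv_rev, hk, inv_inv, mul_assoc]
    rw [← mul_assoc E.K E.K, E.K_sq, one_mul, ← mul_assoc Z⁻¹, inv_mul_cancel, one_mul]
  have hKW : W * E.K = E.K * W := (hC.K_comm hw).eq.symm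
  set d := c⁻¹ * W with hd
  set z2 := W⁻¹ * z * W with hz2
  have hy : E.K * ev E.T (extraK ++ w) * E.K = d * z2 := by
    rw [ev_append, ← hX, ← hW, mul_assoc E.K, mul_assoc X, hKW, ← mul_assoc X, ← mul_assoc, ← mul_assoc, hu, hd, hz2]
    group
  have hdm : d ∈ E.C0 := mul_mem (inv_mem hcm) (E.mem_C0 (okH_of_k hw))
  have hpz2 : E.p z2 = 1 := by rw [hz2, map_mul, map_mul, hpz, map_inv, mul_one, inv_mul_cancel]
  have hsd : sgn (E.p d) = sgn (ev g (extraK ++ w)) := by
    have := congrArg (fun x => sgn (E.p x)) hy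
    simp only [map_mul, hpz2, mul_one, E.p_K, E.p_ev, sgn_g (show 1 < 12 by omega), map_one] at this
    rw [← this]
    simp
  have hpow : (E.K * ev E.T (extraK ++ w) * E.K) ^ m = 1 := by
    conv_lhs => rw [show E.K * ev E.T (extraK ++ w) * E.K = E.K * ev E.T (extraK ++ w) * (E.K)⁻¹ by rw [hk]]
    rw [conj_pow, ← ev_power, exact_isOne hone, mul_one, mul_inv_cancel]
  rw [hy, (hcomm d z2 hsd hpz2).mul_pow] at hpow
  have hz2m : z2 ^ m = 1 := by
    have hd1 : d ^ m = 1 := by
      refine E.eq_one_of_C0 (pow_mem hdm m) ?_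
      have := congrArg E.p hpow
      rwa [map_mul, map_pow E.p z2, hpz2, one_pow, mul_one, map_one] at this
    rwa [hd1, one_mul] at hpow
  have e : R = (E.K * S * A)⁻¹ * z * (E.K * S * A)⁻¹⁻¹ := by
    rw [inv_inv]
    rw [hz1, hZ, hz]
    simp only [mul_inv_rev, hk, mul_assoc]
    simp [← mul_assoc E.K E.K, E.K_sq]
  have ez : z = W * z2 * W⁻¹ := by rw [hz2]; group
  rw [e, ez]
  have conj1 : ∀ a b : Γ, a ^ m = 1 → (b * a * b⁻¹) ^ m = 1 := fun a b ha => by rw [conj_pow, ha]; group
  exact conj1 _ _ (conj1 _ W hz2m)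

theorem Cox.spider_three (hC : E.Cox) : ev E.T spiderWord ^ 3 = 1 := by
  have hev : ∀ w, (∀ s ∈ extraK ++ w, s < 12) → (extraK ++ w).length % 2 = 0 → sgn (ev g (extraK ++ w)) = 1 :=
    fun w hl he => by rw [sgn_ev hl, Even.neg_one_pow (Nat.even_iff.2 he)]
  have key : ∀ w m, chkOrd w m = true → ((extraK ++ w).all fun s => Nat.blt s 12) = true →
      (extraK ++ w).length % 2 = 0 → ev E.T spiderWord ^ m = 1 := fun w m h hl he =>
    hC.spider_pow h fun x z hx hz => E.even_comm x z (hx.trans (hev w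
      (fun s hs => Nat.le_of_ble_eq_true (List.all_eq_true.1 hl s hs)) he)) hz
  have h6 := key [4] 6 (by decide +kernel) (by decide +kernel) (by decide +kernel)
  have h9 := key [5, 6, 9] 9 (by decide +kernel) (by decide +kernel) (by decide +kernel)
  have := pow_gcd_eq_one.2 ⟨h6, h9⟩
  simpa using this

theorem Cox.spider_one (hC : E.Cox) (hcen : ∀ x z, E.p z = 1 → Commute x z) : ev E.T spiderWord = 1 := by
  have h2 := hC.spider_pow (w := [11, 7, 4, 9]) (m := 2) (by decide +kernel) fun x z _ hz => hcen x z hz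
  have := pow_gcd_eq_one.2 ⟨h2, hC.spider_three⟩
  simpa using this

end Ext

end Cfsg.Agent.Spor.Cos.Fi24Mult
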