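import Cfsg.Agent.Lib.Spor.Cos.Fi24Up.Main
import Cfsg.Agent.Lib.Spor.Cos.Fi23.IsSimple
import Cfsg.Agent.Lib.Spor.Cos.Fi24Mult.Central

/-!
Fi24 as needed for its multiplier: the sign, the embedding of Fi23, and the centraliser of the first generator.
-/

set_option autoImplicit false
set_option maxRecDepth 100000
set_option maxHeartbeats 4000000

open Cfsg Cfsg.Spor
open scoped commutatorElement

namespace Cfsg.Agent.Spor.Cos.Fi24Mult

open Fi24Up

theorem g_cancel (s : ℕ) (y : Spor.Fi24) : g s * (g s * y) = y := by rw [← mul_assoc, g_sq, one_mul]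

theorem exists_sgn : ∃ f : Spor.Fi24 →* ℤˣ, ∀ s, f (g s) = if s < 12 then -1 else 1 :=
  Fi24Up.pres.exists_hom _ (fun s => by split_ifs <;> simp)
    (fun w hw => by
      have h : (words.all fun w => decide (ev (fun s => if s < 12 then (-1 : ℤˣ) else 1) w = 1)) = true := by
        decide +kernel
      exact of_decide_eq_true (List.all_eq_true.1 h w hw))
    (fun s hs => by rw [if_neg (Nat.not_lt.2 (by exact hs))])

/-- The sign. -/
noncomputable def sgn : Spor.Fi24 →* ℤˣ := exists_sgn.choose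

theorem sgn_g {s : ℕ} (hs : s < 12) : sgn (g s) = -1 := by rw [sgn, exists_sgn.choose_spec, if_pos hs]

theorem sgn_ev : ∀ {w : List ℕ}, (∀ s ∈ w, s < 12) → sgn (ev g w) = (-1) ^ w.length
  | [], _ => by simp [ev]
  | s :: w, h => by
    rw [ev, map_mul, sgn_g (h s (by simp)), sgn_ev fun t ht => h t (List.mem_cons_of_mem _ ht), List.length_cons,
      pow_succ']

theorem g_ne {s t : ℕ} (hs : s < 12) (ht : t < 12) (p : ℕ) (hp : p < Fus.Fi24Model.M)
    (h : Nat.beq (Fus.Fi24Model.im12 s p) (Fus.Fi24Model.im12 t p) = false) : g s ≠ g t := fun e => by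
  have h1 := congrArg (fun y => ((piG y : ↥Fus.Fi24Model.GG) : Equiv.Perm Fus.Fi24Model.Xp) ⟨p, hp⟩) e
  simp only [piG_g hs, piG_g ht] at h1
  have h2 := congrArg Fin.val h1
  rw [Fus.Fi24Model.gen12_val hs, Fus.Fi24Model.gen12_val ht] at h2
  exact Nat.ne_of_beq_eq_false h h2

theorem g_zero_ne_one : g 0 ≠ g 1 :=
  g_ne (by omega) (by omega) 0 (by rw [Fus.Fi24Model.M_eq]; norm_num) (by decide +kernel)

theorem g_zero_ne_two : g 0 ≠ g 2 := by
  have h : ∃ p, p < 64 ∧ Nat.beq (Fus.Fi24Model.im12 0 p) (Fus.Fi24Model.im12 2 p) = false := by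
    have : ((List.range 64).any fun p => !Nat.beq (Fus.Fi24Model.im12 0 p) (Fus.Fi24Model.im12 2 p)) = true := by
      decide +kernel
    obtain ⟨p, hp, h⟩ := List.any_eq_true.1 this
    exact ⟨p, List.mem_range.1 hp, by simpa using h⟩
  obtain ⟨p, hp, h⟩ := h
  exact g_ne (by omega) (by omega) p (by rw [Fus.Fi24Model.M_eq]; omega) h

theorem fi23_perfect : commutator Spor.Fi23 = ⊤ := by
  have := Fi23.finite
  have := Fi23.isSimple
  rcases (commutator Spor.Fi23).normal_of_characteristic.eq_bot_or_eq_top with h | h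
  · exfalso
    have hc : ∀ x y : Spor.Fi23, x * y = y * x := fun x y => by
      have : ⁅x, y⁆ ∈ commutator Spor.Fi23 := by
        rw [commutator_def]; exact Subgroup.commutator_mem_commutator (Subgroup.mem_top x) (Subgroup.mem_top y)
      rw [h, Subgroup.mem_bot] at this
      exact commutatorElement_eq_one_iff_mul_comm.1 this
    let : CommGroup Spor.Fi23 := { (inferInstance : Group Spor.Fi23) with mul_comm := hc }
    have hp : (Nat.card Spor.Fi23).Prime := IsSimpleGroup.prime_card
    rw [Fi23.card_eq] at hp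
    exact absurd (hp.eq_one_or_self_of_dvd 2 (by norm_num)) (by norm_num)
  · exact h

theorem sgn_phi (f : Spor.Fi23) : sgn (phi f) = 1 :=
  hom_eq_one fi23_perfect (sgn.comp phi) (fun _ _ => mul_comm _ _) f

theorem phi_mem_commutator (f : Spor.Fi23) : phi f ∈ commutator Spor.Fi24 := by
  have : phi f ∈ (commutator Spor.Fi23).map phi := Subgroup.mem_map_of_mem _ (fi23_perfect ▸ Subgroup.mem_top f)
  rw [commutator_def, Subgroup.map_commutator] at this
  exact Subgroup.commutator_mono le_top le_top this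

theorem phi_injective : Function.Injective phi := by
  have := Fi23.isSimple
  rw [← MonoidHom.ker_eq_bot_iff]
  rcases (inferInstance : phi.ker.Normal).eq_bot_or_eq_top with h | h
  · exact h
  · exfalso
    have h0 : phi (Fi23.g 0) = 1 := by
      rw [← MonoidHom.mem_ker, h]; exact Subgroup.mem_top _
    rw [phi_g, sigma, if_pos (by omega)] at h0
    exact g_zero_ne_two ((eq_inv_of_mul_eq_one_left h0).trans (g_inv 0)).symm

theorem g_braid {s t : ℕ} (h : derivedOk 12 words [s, t, s, t, s, t] = true) :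
    g s * g t * g s * g t * g s * g t = 1 := by
  simpa [ev, mul_assoc] using ev_derived (fun u _ => g_sq u) g_words h

/-- The elements commuting with the first generator lie in the subgroup of the generators other than k. -/
theorem mem_HH_of_comm {y : Spor.Fi24} (hy : Commute (g 0) y) : y ∈ HH := by
  have hq : (y : Spor.Fi24 ⧸ HH) ∈ cosets := cosets_eq ▸ Set.mem_univ _
  have key : ∀ r, (y : Spor.Fi24 ⧸ HH) ∈ orbOf r → Commute (g 0) r := by
    rintro r ⟨h, hh, e⟩
    have hc := l_comm_HH (QuotientGroup.eq.1 e)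
    have h1 : Commute (g 0) (h * r) := by
      have := hy.mul_right hc
      rwa [mul_inv_cancel_left] at this
    have := (l_comm_HH hh).inv_right.mul_right h1
    rwa [inv_mul_cancel_left] at this
  rcases hq with (hq | hq) | hq
  · obtain ⟨h, hh, e⟩ := hq
    rw [mul_one] at e
    have := HH.mul_mem hh (HH.inv_mem (QuotientGroup.eq.1 e))
    rwa [mul_inv_rev, inv_inv, mul_inv_cancel_left] at this
  · exfalso
    have hc : g 0 * g 1 = g 1 * g 0 := key _ hq
    have hb := g_braid (s := 0) (t := 1) (by decide +kernel)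
    refine g_zero_ne_one ((eq_inv_of_mul_eq_one_left (a := g 0) (b := g 1) ?_).trans (g_inv 1))
    calc g 0 * g 1 = g 0 * g 1 * (g 1 * g 0 * (g 0 * g 1)) := by simp [mul_assoc, g_sq, g_cancel]
      _ = g 0 * g 1 * g 0 * g 1 * g 0 * g 1 := by rw [← hc]; simp only [mul_assoc]
      _ = 1 := hb
  · exfalso
    have hc : g 0 * xx = xx * g 0 := key _ hq
    apply g_zero_ne_two
    have hb := g_braid (s := 0) (t := 1) (by decide +kernel)
    have hb2 := g_braid (s := 1) (t := 2) (by decide +kernel)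
    have e1 : g 1 * g 0 * g 1 = g 0 * g 1 * g 0 := by
      calc g 1 * g 0 * g 1 = (g 0 * g 1 * g 0 * g 1 * g 0 * g 1) * (g 1 * g 0 * g 1) := by rw [hb, one_mul]
        _ = g 0 * g 1 * g 0 := by simp [mul_assoc, g_sq, g_cancel]
    have e2 : g 1 * g 2 * g 1 = g 2 * g 1 * g 2 := by
      calc g 1 * g 2 * g 1 = g 1 * g 2 * g 1 * (g 2 * g 2) := by simp [g_sq]
        _ = (g 1 * g 2 * g 1 * g 2 * g 1 * g 2) * (g 2 * g 1 * g 2) := by simp [mul_assoc, g_sq, g_cancel]
        _ = g 2 * g 1 * g 2 := by rw [hb2, one_mul]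
    have hlk : g 0 * g 2 = g 2 * g 0 := g_comm (by decide +kernel)
    -- klak l klak = a
    have e3 : xx * g 0 * xx = g 2 := by
      simp only [xx, xWord, ev, mul_one]
      calc g 1 * (g 0 * (g 2 * g 1)) * g 0 * (g 1 * (g 0 * (g 2 * g 1)))
          = g 1 * g 0 * g 2 * (g 1 * g 0 * g 1) * g 0 * g 2 * g 1 := by simp only [mul_assoc]
        _ = g 1 * g 0 * g 2 * (g 0 * g 1 * g 0) * g 0 * g 2 * g 1 := by rw [e1]
        _ = g 1 * (g 0 * g 2) * g 0 * g 1 * g 2 * g 1 := by simp [mul_assoc, g_sq, g_cancel]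
        _ = g 1 * (g 2 * g 0) * g 0 * (g 1 * g 2 * g 1) := by rw [hlk]; simp only [mul_assoc]
        _ = g 1 * g 2 * (g 2 * g 1 * g 2) := by rw [e2]; simp [mul_assoc, g_sq, g_cancel]
        _ = g 2 := by simp [← mul_assoc, g_sq, mul_assoc (g 1) (g 2) (g 2)]
    rw [← e3, mul_assoc, hc, ← mul_assoc, xx_sq, one_mul]

end Cfsg.Agent.Spor.Cos.Fi24Mult
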