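import Cfsg.Agent.Lib.Fus.Fi24Model.Defs

/-!
The maps of the model of Fi₂₄ on its points, written with the operations on numbers that the kernel evaluates
directly, and their agreement with those of the model.
-/

set_option autoImplicit false

namespace Cfsg.Agent.Spor.Cos.Fi24Mult

open Cfsg.Agent.Fus.Fi24Model (M A0 imA limN kimN mimN byKind aT kT)

/-- The leaf of a key. -/
noncomputable def bget (t : Bst) : ℕ → ℕ :=
  Bst.rec (motive := fun _ => ℕ → ℕ) (fun E _ => E)
    (fun m _ _ fl fr k => Bool.rec (fl k) (fr k) (Nat.ble m k)) t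

/-- A part of a field: `2 ^ c` fields of `w` bits to a leaf, `cm = 2 ^ c - 1`, the part at `off` under `mask`. -/
noncomputable def fld (t : Bst) (c cm w off mask k : ℕ) : ℕ :=
  force (Nat.shiftRight k c) fun j =>
    Nat.land (Nat.shiftRight (bget t j) (Nat.add (Nat.mul w (Nat.land k cm)) off)) mask

theorem bget_eq (t : Bst) (k : ℕ) : bget t k = t.get k := by
  induction t with
  | leaf E => rfl
  | node m l r hl hr =>
    show Bool.rec (motive := fun _ => ℕ) (bget l k) (bget r k) (Nat.ble m k) =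
      Bool.rec (motive := fun _ => ℕ) (r.get k) (l.get k) (Nat.blt k m)
    rw [hl, hr]
    rcases h : Nat.ble m k with _ | _
    · have hk : ¬ m ≤ k := fun hh => by rw [Nat.ble_eq_true_of_le hh] at h; exact Bool.noConfusion h
      rw [show Nat.blt k m = true from Nat.ble_eq_true_of_le (Nat.lt_of_not_le hk)]
    · have hk : m ≤ k := Nat.le_of_ble_eq_true h
      rw [show Nat.blt k m = false from Bool.eq_false_iff.2 fun e => by
        have := Nat.le_of_ble_eq_true e; omega]

theorem fld_eq (t : Bst) (c w off m k : ℕ) (h : off + m ≤ w) :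
    fld t c (2 ^ c - 1) w off (2 ^ m - 1) k = ((⟨t, w, c⟩ : Tab).at k >>> off) % 2 ^ m := by
  simp only [fld, Tab.at, force_eq, bget_eq, show ∀ a b, Nat.land a b = a &&& b from fun _ _ => rfl,
    show ∀ a b, Nat.shiftRight a b = a >>> b from fun _ _ => rfl, Nat.and_two_pow_sub_one_eq_mod, Nat.add_eq,
    Nat.mul_eq]
  refine Nat.eq_of_testBit_eq fun i => ?_
  simp only [Nat.testBit_mod_two_pow, Nat.testBit_shiftRight]
  by_cases hi : i < m
  · simp [hi, show off + i < w by omega, add_assoc]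
  · simp [hi]

/-- A generator on the apart points. -/
noncomputable def aImg (s i : ℕ) : ℕ :=
  Nat.xor (fld aT.tree 3 7 190 (Nat.mul 19 s) 524287 (Nat.shiftRight i 1)) (Nat.land i 1)

/-- A generator of Fi₂₃ on the neighbours. -/
noncomputable def pImg (s p : ℕ) : ℕ := fld Fi23.actA.T.tree 3 7 160 (Nat.mul 16 s) 65535 p

/-- A choice by the kind of the point, the apart points first. -/
noncomputable def kindF (N x z : ℕ) (p a : ℕ → ℕ) : ℕ :=
  Bool.rec (motive := fun _ => ℕ) (Bool.rec (motive := fun _ => ℕ) (force (Nat.sub x 1) p) z (Nat.beq x 0))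
    (force (Nat.sub x N) a) (Nat.ble N x)

/-- A generator of Fi₂₃ times the transposition of the first point. -/
noncomputable def mimF (s x : ℕ) : ℕ :=
  kindF 31672 x 0 (fun p => Nat.add 1 (pImg s p)) fun i => Nat.add 31672 (aImg s i)

/-- The transposition of the first point. -/
noncomputable def limF (x : ℕ) : ℕ :=
  kindF 31672 x 0 (fun p => Nat.add 1 p) fun i => Nat.add 31672 (Nat.xor i 1)

/-- The generators, in the order l, k, a, b, c, d, e, f, g, j, h, i. -/
noncomputable def imF (s x : ℕ) : ℕ :=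
  Nat.rec (motive := fun _ => ℕ) (limF x)
    (fun s' _ => Nat.rec (motive := fun _ => ℕ) (fld kT.tree 4 15 19 0 524287 x) (fun t _ => mimF t x) s') s

theorem aImg_eq {s : ℕ} (hs : s < 10) (i : ℕ) : aImg s i = imA s i := by
  rw [aImg, imA, show (7 : ℕ) = 2 ^ 3 - 1 from rfl, show (524287 : ℕ) = 2 ^ 19 - 1 from rfl]
  rw [fld_eq _ _ _ _ _ _ (by rw [Nat.mul_eq]; omega)]
  rw [show Nat.land i 1 = i &&& 1 from rfl, Nat.and_one_is_mod,
    show Nat.shiftRight i 1 = i >>> 1 from rfl, Nat.shiftRight_one]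
  rfl

theorem pImg_eq {s : ℕ} (hs : s < 10) (p : ℕ) : pImg s p = Fi23.actA.im p s := by
  rw [pImg, Act.im, show (7 : ℕ) = 2 ^ 3 - 1 from rfl, show (65535 : ℕ) = 2 ^ 16 - 1 from rfl]
  rw [fld_eq _ _ _ _ _ _ (by rw [Nat.mul_eq]; omega)]
  rfl

theorem kindF_eq {N : ℕ} (hN : 0 < N) (x z : ℕ) (p a : ℕ → ℕ) :
    kindF N x z p a =
      bif Nat.beq x 0 then z else bif Nat.blt x N then force (x - 1) p else force (x - N) a := by
  unfold kindF
  rcases h : Nat.ble N x with _ | _
  · have hx : x < N := Nat.lt_of_not_le fun hh => by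
      rw [Nat.ble_eq_true_of_le hh] at h; exact Bool.noConfusion h
    rw [show Nat.blt x N = true from Nat.ble_eq_true_of_le hx]
    cases Nat.beq x 0 <;> rfl
  · have hx : N ≤ x := Nat.le_of_ble_eq_true h
    rw [show Nat.blt x N = false from Bool.eq_false_iff.2 fun e => by
      have : x + 1 ≤ N := Nat.le_of_ble_eq_true e
      omega,
      show Nat.beq x 0 = false from Bool.eq_false_iff.2 fun e => by have := Nat.eq_of_beq_eq_true e; omega]
    rfl

theorem byKind_eq (x z : ℕ) (p a : ℕ → ℕ) : kindF A0 x z p a = byKind x z p a :=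
  kindF_eq (Nat.succ_pos 31671) x z p a

theorem mimF_eq {s : ℕ} (hs : s < 10) (x : ℕ) : mimF s x = mimN s x := by
  rw [mimF, show (fun p => Nat.add 1 (pImg s p)) = fun p => 1 + Fi23.actA.im p s from
      funext fun p => congrArg (1 + ·) (pImg_eq hs p),
    show (fun i => Nat.add 31672 (aImg s i)) = fun i => A0 + imA s i from
      funext fun i => congrArg (A0 + ·) (aImg_eq hs i)]
  exact byKind_eq x 0 _ _

theorem limF_eq (x : ℕ) : limF x = limN x := byKind_eq x 0 _ _

theorem kimF_eq (x : ℕ) : fld kT.tree 4 15 19 0 524287 x = kimN x := by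
  rw [show (15 : ℕ) = 2 ^ 4 - 1 from rfl, show (524287 : ℕ) = 2 ^ 19 - 1 from rfl, fld_eq kT.tree 4 19 0 19 x (by norm_num)]
  show ((kT.at x) >>> 0) % 2 ^ 19 = kT.at x
  rw [Nat.shiftRight_zero]
  refine Nat.mod_eq_of_lt ?_
  rw [Tab.at, force_eq]
  exact Nat.mod_lt _ (Nat.two_pow_pos _)

end Cfsg.Agent.Spor.Cos.Fi24Mult
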