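import Cfsg.Agent.Lib.Spor.Cos.Fi24Mult.Checks
import Cfsg.Agent.Lib.Spor.Cos.Fi24Mult.Braid
import Cfsg.Agent.Lib.Fus.Fi24Model.Presented

/-!
The generators on the three sheets are involutions over those of the model; a relator that holds in the model holds
on the sheets as soon as it fixes the sheets over the points where some letter of it shifts.
-/

set_option autoImplicit false
set_option maxRecDepth 100000

namespace Cfsg.Agent.Spor.Cos.Fi24Mult

open Cfsg.Agent.Fus.Fi24Model (M M_eq Xp im12 gen12 gen12_val gen12_sq go12)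

attribute [local irreducible] Cfsg.Agent.Fus.Fi24Model.kimN Cfsg.Agent.Fus.Fi24Model.limN
  Cfsg.Agent.Fus.Fi24Model.mimN

theorem imF_eq {s : ℕ} (hs : s < 12) (x : ℕ) : imF s x = im12 s x := by
  match s, hs with
  | 0, _ => exact limF_eq x
  | 1, _ => exact kimF_eq x
  | s + 2, hs => exact mimF_eq (by omega) x

theorem imF_spec {s : ℕ} (hs : s < 12) {x : ℕ} (hx : x < M) : imF s x < M ∧ imF s (imF s x) = x := by
  have h := gen12_val hs ⟨x, hx⟩
  rw [imF_eq hs, imF_eq hs]
  refine ⟨(show im12 s x = _ from h.symm) ▸ (gen12 s ⟨x, hx⟩).2, ?_⟩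
  have h2 := gen12_val hs (gen12 s ⟨x, hx⟩)
  rw [← Equiv.Perm.mul_apply, gen12_sq hs, h] at h2
  exact h2.symm

theorem chkX_at {x : ℕ} (hx : x < M) : chkX x = true := chkX_all x (lt_of_lt_of_eq hx M_eq)

theorem code_spec {x : ℕ} (hx : x < M) {s : ℕ} (h : code x / 2 = s + 1) :
    0 < s ∧ s < 12 ∧ code (imF s x) = code x ∧
      (x ≤ imF s x → chkE x (code x) = true ∧
        ∀ t < 12, t ≠ s → chkP s t x (code x) (imF t x) = true) := by
  have hc := chkX_at hx
  rw [chkX, force_eq] at hc
  simp only [Bool.or_eq_true, Bool.and_eq_true] at hc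
  rcases hc with hc | ⟨⟨h4, h26⟩, hc⟩
  · rw [Nat.eq_of_beq_eq_true hc] at h; omega
  have h4' := Nat.le_of_ble_eq_true h4
  have h26' := Nat.le_of_ble_eq_true h26
  rw [force_eq, force_eq, show code x / 2 - 1 = s by omega] at hc
  simp only [Bool.and_eq_true, Bool.or_eq_true, List.all_eq_true, List.mem_range, force_eq] at hc
  refine ⟨by omega, by omega, Nat.eq_of_beq_eq_true hc.1, fun hxy => ?_⟩
  rcases hc.2 with hy | ⟨hE, hP⟩
  · have := Nat.le_of_ble_eq_true hy; omega
  · exact ⟨hE, fun t ht hne => (hP t ht).resolve_left fun e => hne (Nat.eq_of_beq_eq_true e)⟩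

theorem sh_zero (x : ℕ) : sh 0 x = 0 := rfl

theorem shOf_eq (s c : ℕ) : shOf s c = if c / 2 = s + 1 then 1 + c % 2 else 0 := by
  unfold shOf
  rw [show Nat.shiftRight c 1 = c / 2 from Nat.shiftRight_one c, show Nat.land c 1 = c % 2 from Nat.and_one_is_mod c]
  rcases h : Nat.beq (c / 2) (Nat.add s 1) with _ | _
  · rw [if_neg fun e => by rw [show Nat.add s 1 = c / 2 from e.symm, Nat.beq_refl] at h; exact Bool.noConfusion h]
  · rw [if_pos (Nat.eq_of_beq_eq_true h)]
    rfl

theorem sh_eq {s : ℕ} (hs : s ≠ 0) (x : ℕ) : sh s x = if code x / 2 = s + 1 then 1 + code x % 2 else 0 := by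
  unfold sh
  rw [show Nat.beq s 0 = false from Bool.eq_false_iff.2 fun e => hs (Nat.eq_of_beq_eq_true e), force_eq, shOf_eq]

theorem sh_lt (s x : ℕ) : sh s x < 3 := by
  rcases eq_or_ne s 0 with rfl | hs
  · rw [sh_zero]; omega
  · rw [sh_eq hs]; split_ifs <;> omega

theorem sh_ne_zero {s x : ℕ} (h : sh s x ≠ 0) : code x / 2 = s + 1 := by
  rcases eq_or_ne s 0 with rfl | hs
  · exact absurd (sh_zero x) h
  · rw [sh_eq hs] at h
    exact of_not_not fun e => h (if_neg e)

theorem sh_imF {s : ℕ} (hs : s < 12) {x : ℕ} (hx : x < M) : sh s (imF s x) = sh s x := by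
  have key : ∀ y < M, sh s y ≠ 0 → sh s (imF s y) = sh s y := fun y hy h => by
    obtain ⟨h0, -, hc, -⟩ := code_spec hy (sh_ne_zero h)
    rw [sh_eq (by omega), sh_eq (by omega), hc]
  obtain ⟨h1, h2⟩ := imF_spec hs hx
  by_cases h : sh s x = 0
  · rw [h]
    by_contra h'
    have e := key _ h1 h'
    rw [h2, h] at e
    exact h' e.symm
  · exact key x hx h

theorem im3_eq (s x : ℕ) {j : ℕ} (hj : j < 3) :
    im3 s (3 * x + j) = 3 * imF s x + (sh s x + 3 - j) % 3 := by
  unfold im3
  rw [force_eq, force_eq, show Nat.div (3 * x + j) 3 = x from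
    (show (3 * x + j) / 3 = x by omega), show Nat.mod (3 * x + j) 3 = j from (show (3 * x + j) % 3 = j by omega)]
  rfl

/-- The sheets over the points. -/
abbrev Yp : Type := Fin (3 * M)

theorem im3_spec {s : ℕ} (hs : s < 12) {e : ℕ} (he : e < 3 * M) : im3 s e < 3 * M ∧ im3 s (im3 s e) = e := by
  have hx : e / 3 < M := by omega
  obtain ⟨h1, h2⟩ := imF_spec hs hx
  have hj : e % 3 < 3 := Nat.mod_lt _ (by norm_num)
  have hee : 3 * (e / 3) + e % 3 = e := Nat.div_add_mod e 3
  have e1 := im3_eq s (e / 3) hj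
  rw [hee] at e1
  refine ⟨by rw [e1]; omega, ?_⟩
  rw [e1, im3_eq s _ (Nat.mod_lt _ (by norm_num)), h2, sh_imF hs hx]
  have := sh_lt s (e / 3)
  omega

/-- The generators on the sheets. -/
noncomputable def lift (s : ℕ) : Equiv.Perm Yp :=
  if hs : s < 12 then Function.Involutive.toPerm (fun e => ⟨im3 s e, (im3_spec hs e.2).1⟩)
    fun e => Fin.ext (im3_spec hs e.2).2
  else 1

theorem lift_val {s : ℕ} (hs : s < 12) (e : Yp) : (lift s e : ℕ) = im3 s e := by
  rw [lift, dif_pos hs]
  rfl

theorem lift_sq (s : ℕ) : lift s * lift s = 1 := by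
  unfold lift
  split_ifs with hs
  · exact Equiv.ext fun e => Fin.ext (im3_spec hs e.2).2
  · exact one_mul 1

theorem lift_lift (s : ℕ) (e : Yp) : lift s (lift s e) = e := by
  rw [← Equiv.Perm.mul_apply, lift_sq, Equiv.Perm.one_apply]

theorem go3_cons (s : ℕ) (w : List ℕ) (e : ℕ) : go3 (s :: w) e = im3 s (go3 w e) := by
  simp only [go3, force_eq]

theorem ev3_val : ∀ w : List ℕ, (∀ s ∈ w, s < 12) → ∀ e : Yp, (ev lift w e : ℕ) = go3 w e
  | [], _, _ => rfl
  | s :: w, hw, e => by
    rw [ev, Equiv.Perm.mul_apply, lift_val (hw s (List.mem_cons_self ..)),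
      ev3_val w (fun t ht => hw t (List.mem_cons_of_mem _ ht)) e, go3_cons]

theorem go12_cons (s : ℕ) (w : List ℕ) (x : ℕ) : go12 (s :: w) x = im12 s (go12 w x) := by
  simp only [go12, force_eq]

theorem go12_lt : ∀ w : List ℕ, (∀ s ∈ w, s < 12) → ∀ {x : ℕ}, x < M → go12 w x < M
  | [], _, _, hx => hx
  | s :: w, hw, x, hx => by
    rw [go12_cons, ← imF_eq (hw s (List.mem_cons_self ..))]
    exact (imF_spec (hw s (List.mem_cons_self ..)) (go12_lt w (fun t ht => hw t (List.mem_cons_of_mem _ ht)) hx)).1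

/-- The sheet after a word, from the sheet before it and the shift `a` of the word. -/
def sheet (n a j : ℕ) : ℕ := if n % 2 = 0 then (a + j) % 3 else (a + 3 - j) % 3

theorem go3_affine : ∀ w : List ℕ, (∀ s ∈ w, s < 12) → ∀ x : ℕ, ∃ a < 3, ∀ j < 3,
    go3 w (3 * x + j) = 3 * go12 w x + sheet w.length a j
  | [], _, x => ⟨0, by norm_num, fun j hj => by
    show 3 * x + j = 3 * x + (0 + j) % 3
    omega⟩
  | s :: w, hw, x => by
    obtain ⟨a, ha, h⟩ := go3_affine w (fun t ht => hw t (List.mem_cons_of_mem _ ht)) x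
    have hs := hw s (List.mem_cons_self ..)
    refine ⟨(sh s (go12 w x) + 3 - a) % 3, Nat.mod_lt _ (by norm_num), fun j hj => ?_⟩
    have hl : sheet w.length a j < 3 := by unfold sheet; split_ifs <;> omega
    rw [go3_cons, h j hj, im3_eq s _ hl, imF_eq hs, go12_cons, List.length_cons]
    have := sh_lt s (go12 w x)
    unfold sheet at *
    congr 1
    split_ifs <;> omega

/-- A word of even length over the identity fixing one sheet over a point fixes the three. -/
theorem fix_fibre {w : List ℕ} (hw : ∀ s ∈ w, s < 12) (he : w.length % 2 = 0) {x : ℕ}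
    (hx : go12 w x = x) (h : fixes w x = true) (p : Yp) (hp : (p : ℕ) / 3 = x) : ev lift w p = p := by
  obtain ⟨a, ha, h'⟩ := go3_affine w hw x
  have h0 := Nat.eq_of_beq_eq_true (show Nat.beq (go3 w (3 * x)) (3 * x) = true by
    rwa [fixes, force_eq] at h)
  have e0 := h' 0 (by norm_num)
  rw [add_zero, h0, hx, sheet, if_pos he] at e0
  refine Fin.ext ?_
  rw [ev3_val w hw]
  have hj : (p : ℕ) % 3 < 3 := Nat.mod_lt _ (by norm_num)
  have hee : 3 * x + (p : ℕ) % 3 = p := by omega
  rw [← hee, h' _ hj, hx, sheet, if_pos he]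
  omega

/-- If the fixed sheets of a relator are kept by its letters and hold all sheets over the points where a letter
shifts, the relator is trivial on the sheets. -/
theorem eq_one_of_hits {R : List ℕ} (hR : ∀ s ∈ R, s < 12) (he : R.length % 2 = 0)
    (hbase : ∀ x < M, go12 R x = x)
    (hinv : ∀ s ∈ R, ∀ p, ev lift R p = p → ev lift R (lift s p) = lift s p)
    (hit : ∀ s ∈ R, ∀ x < M, sh s x ≠ 0 → ∀ p : Yp, (p : ℕ) / 3 = x → ev lift R p = p) : ev lift R = 1 := by
  refine Equiv.ext fun p => ?_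
  have back : ∀ v : List ℕ, (∀ s ∈ v, s ∈ R) →
      ev lift R (ev lift v p) = ev lift v p → ev lift R p = p := by
    intro v
    induction v with
    | nil => exact fun _ h => h
    | cons s v ih =>
      intro hv h
      rw [ev, Equiv.Perm.mul_apply] at h
      have h' := hinv s (hv s (List.mem_cons_self ..)) _ h
      rw [lift_lift] at h'
      exact ih (fun t ht => hv t (List.mem_cons_of_mem _ ht)) h'
  have key : ∀ v : List ℕ, (∀ s ∈ v, s ∈ R) →
      ev lift R p = p ∨ (ev lift v p : ℕ) = 3 * go12 v ((p : ℕ) / 3) + sheet v.length 0 ((p : ℕ) % 3) := by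
    intro v
    induction v with
    | nil =>
      refine fun _ => Or.inr ?_
      show (p : ℕ) = 3 * ((p : ℕ) / 3) + (0 + (p : ℕ) % 3) % 3
      omega
    | cons s v ih =>
      intro hv
      have hv' : ∀ t ∈ v, t ∈ R := fun t ht => hv t (List.mem_cons_of_mem _ ht)
      refine (ih hv').elim Or.inl fun h => ?_
      have hs := hv s (List.mem_cons_self ..)
      have hx : go12 v ((p : ℕ) / 3) < M := go12_lt v (fun t ht => hR t (hv' t ht)) (by have := p.2; omega)
      by_cases hsh : sh s (go12 v ((p : ℕ) / 3)) = 0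
      · refine Or.inr ?_
        rw [ev, Equiv.Perm.mul_apply, lift_val (hR s hs), h, im3_eq s _ (by unfold sheet; split_ifs <;> omega), hsh,
          go12_cons, imF_eq (hR s hs), List.length_cons]
        unfold sheet
        congr 1
        split_ifs <;> omega
      · exact Or.inl (back v hv' (hit s hs _ hx hsh _ (by rw [h]; unfold sheet; split_ifs <;> omega)))
  show ev lift R p = p
  refine (key R fun _ h => h).elim id fun h => Fin.ext ?_
  rw [h, hbase _ (by have := p.2; omega), sheet, if_pos he]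
  omega

end Cfsg.Agent.Spor.Cos.Fi24Mult
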