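import Cfsg.Agent.Lib.Spor.Cos.Fi24Mult.Lifts

/-! The relators of Y₅₄₂ and the relator of E₇ hold on the three sheets. -/

set_option autoImplicit false
set_option maxRecDepth 100000

namespace Cfsg.Agent.Spor.Cos.Fi24Mult

open Cfsg.Agent.Fus.Fi24Model (M A0 Xp gen12 ev12_val go12 eq_one_of_base)

attribute [local irreducible] Cfsg.Agent.Fus.Fi24Model.kimN Cfsg.Agent.Fus.Fi24Model.limN
  Cfsg.Agent.Fus.Fi24Model.mimN

theorem lab_symm : ∀ s < 12, ∀ t < 12, lab s t = lab t s := by decide

theorem lab_cases : ∀ s < 12, ∀ t < 12, s ≠ t → lab s t = 2 ∨ lab s t = 3 := by decide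

theorem pairs_base : ((List.range 12).all fun s => (List.range 12).all fun t =>
    ((pairW s t).all fun u => Nat.blt u 12) &&
      ([0, A0, 1, 2, 3, 4, 5, 6, 7, 9, 10].all fun x => Nat.beq (go12 (pairW s t) x) x)) = true := by
  decide +kernel

theorem e7_base : ((e7W.all fun u => Nat.blt u 12) &&
    ([0, A0, 1, 2, 3, 4, 5, 6, 7, 9, 10].all fun x => Nat.beq (go12 e7W x) x)) = true := by
  decide +kernel

theorem base_fix {w : List ℕ} (h : ((w.all fun u => Nat.blt u 12) &&
    ([0, A0, 1, 2, 3, 4, 5, 6, 7, 9, 10].all fun x => Nat.beq (go12 w x) x)) = true) :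
    (∀ u ∈ w, u < 12) ∧ ∀ x < M, go12 w x = x := by
  rw [Bool.and_eq_true] at h
  have hl : ∀ u ∈ w, u < 12 := fun u hu => Nat.le_of_ble_eq_true (List.all_eq_true.1 h.1 u hu)
  refine ⟨hl, fun x hx => ?_⟩
  have e := ev12_val w hl (⟨x, hx⟩ : Xp)
  rw [eq_one_of_base h.1 h.2, Equiv.Perm.one_apply] at e
  exact e.symm

theorem pair_spec {s t : ℕ} (hs : s < 12) (ht : t < 12) :
    (∀ u ∈ pairW s t, u < 12) ∧ ∀ x < M, go12 (pairW s t) x = x :=
  base_fix (List.all_eq_true.1 (List.all_eq_true.1 pairs_base s (List.mem_range.2 hs)) t (List.mem_range.2 ht))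

theorem pair_even : ∀ s < 12, ∀ t < 12, (pairW s t).length % 2 = 0 := by decide

theorem pair_mem {s t u : ℕ} (h : u ∈ pairW s t) : u = s ∨ u = t := by
  simp only [pairW, List.mem_flatten, List.mem_replicate] at h
  obtain ⟨l, ⟨-, rfl⟩, h⟩ := h
  simpa using h

theorem pair_ev (s t : ℕ) : ev lift (pairW s t) = (lift s * lift t) ^ lab s t := by
  rw [pairW, ev_power]
  simp [ev]

theorem pair_swap {s t : ℕ} (hs : s < 12) (ht : t < 12) :
    ev lift (pairW t s) = (ev lift (pairW s t))⁻¹ := by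
  rw [pair_ev, pair_ev, lab_symm t ht s hs, ← inv_pow, mul_inv_rev,
    inv_eq_of_mul_eq_one_left (lift_sq s), inv_eq_of_mul_eq_one_left (lift_sq t)]

theorem fix_inv {R : Equiv.Perm Yp} {p : Yp} (h : R p = p) : R⁻¹ p = p := by
  conv_lhs => rw [← h]
  exact R.symm_apply_apply p

/-- The fixed sheets of the relator of a pair are kept by both generators. -/
theorem pair_keep {s t : ℕ} (hs : s < 12) (ht : t < 12) {p : Yp} (h : ev lift (pairW s t) p = p) :
    ev lift (pairW s t) (lift s p) = lift s p ∧ ev lift (pairW s t) (lift t p) = lift t p := by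
  have key : ∀ a b : Equiv.Perm Yp, a * a = 1 → b * b = 1 → ∀ n : ℕ,
      a * (a * b) ^ n * a = ((a * b) ^ n)⁻¹ ∧ b * (a * b) ^ n * b = ((a * b) ^ n)⁻¹ := by
    intro a b ha hb n
    have ia := inv_eq_of_mul_eq_one_left ha
    have ib := inv_eq_of_mul_eq_one_left hb
    have e : ∀ c : Equiv.Perm Yp, c⁻¹ = c → c * (a * b) * c = (a * b)⁻¹ →
        c * (a * b) ^ n * c = ((a * b) ^ n)⁻¹ := fun c hc h1 => by
      rw [← inv_pow, ← h1]
      conv_rhs => rw [show c * (a * b) * c = c * (a * b) * c⁻¹ by rw [hc], conj_pow, hc]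
    refine ⟨e a ia ?_, e b ib ?_⟩
    · rw [← mul_assoc a a, ha, one_mul, mul_inv_rev, ia, ib]
    · rw [mul_assoc, mul_assoc a b b, hb, mul_one, mul_inv_rev, ia, ib]
  obtain ⟨ka, kb⟩ := key (lift s) (lift t) (lift_sq s) (lift_sq t) (lab s t)
  rw [← pair_ev] at ka kb
  set R := ev lift (pairW s t)
  have hi := fix_inv h
  constructor
  · have := congrArg (fun P : Equiv.Perm Yp => P p) ka
    simp only [Equiv.Perm.mul_apply] at this
    rw [hi] at this
    have h2 := congrArg (lift s) this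
    rwa [lift_lift] at h2
  · have := congrArg (fun P : Equiv.Perm Yp => P p) kb
    simp only [Equiv.Perm.mul_apply] at this
    rw [hi] at this
    have h2 := congrArg (lift t) this
    rwa [lift_lift] at h2

theorem lift_div {s : ℕ} (hs : s < 12) (p : Yp) : (lift s p : ℕ) / 3 = imF s ((p : ℕ) / 3) := by
  rw [lift_val hs, ← Nat.div_add_mod (p : ℕ) 3, im3_eq s _ (Nat.mod_lt _ (by norm_num))]
  rw [show (3 * ((p : ℕ) / 3) + (p : ℕ) % 3) / 3 = (p : ℕ) / 3 by omega]
  omega

/-- Over a point with a code of `s`, the relator of `s` and another generator fixes the sheets. -/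
theorem pair_hit {s t : ℕ} (ht : t < 12) (hne : t ≠ s) {x : ℕ} (hx : x < M) (hc : code x / 2 = s + 1)
    (p : Yp) (hp : (p : ℕ) / 3 = x) : ev lift (pairW s t) p = p := by
  obtain ⟨-, hs, -, -⟩ := code_spec hx hc
  have small : ∀ y < M, code y / 2 = s + 1 → y ≤ imF s y →
      ∀ q : Yp, (q : ℕ) / 3 = y → ev lift (pairW s t) q = q := by
    intro y hy hcy hle q hq
    obtain ⟨h0, -, hcs, hmore⟩ := code_spec hy hcy
    obtain ⟨hw, hb⟩ := pair_spec hs ht
    refine fix_fibre hw (pair_even s hs t ht) (hb y hy) ?_ q hq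
    have hP := (hmore hle).2 t ht hne
    rcases lab_cases s hs t ht (Ne.symm hne) with h2 | h3
    swap
    · rwa [chkP, h3, Nat.beq_refl, cond_true] at hP
    rw [chkP, h2, show Nat.beq 2 3 = false from rfl, cond_false] at hP
    have hz : code (imF t y) = code y ^^^ 1 := Nat.eq_of_beq_eq_true hP
    have hW : pairW s t = [s, t, s, t] := by
      rw [pairW, h2]
      rfl
    have hv : sh s y = 1 + code y % 2 := by rw [sh_eq (by omega), if_pos hcy]
    have hzd : (code y ^^^ 1) / 2 = code y / 2 ∧ (code y ^^^ 1) % 2 = 1 - code y % 2 := by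
      refine ⟨by rw [Nat.xor_div_two]; simp, ?_⟩
      rw [← pow_one 2, Nat.xor_mod_two_pow, pow_one]
      rcases Nat.mod_two_eq_zero_or_one (code y) with e | e <;> rw [e] <;> rfl
    have hvz : sh s (imF t y) = 3 - sh s y := by
      rw [sh_eq (by omega), hz, hzd.1, if_pos hcy, hzd.2, hv]
      omega
    have h0t : ∀ u, code u / 2 = s + 1 → sh t u = 0 := fun u hu => by
      by_contra h
      have := sh_ne_zero h
      omega
    obtain ⟨ly, -⟩ := imF_spec ht hy
    obtain ⟨lsy, ssy⟩ := imF_spec hs hy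
    obtain ⟨lsz, -⟩ := imF_spec hs ly
    obtain ⟨-, tts⟩ := imF_spec ht lsz
    obtain ⟨ltsz, -⟩ := imF_spec ht lsz
    obtain ⟨-, hround⟩ := imF_spec hs ltsz
    have hcyc := hb y hy
    rw [hW, go12_cons, go12_cons, go12_cons, go12_cons, show go12 [] y = y from rfl,
      ← imF_eq ht, ← imF_eq hs, ← imF_eq ht, ← imF_eq hs] at hcyc
    have hts : imF t (imF s (imF t y)) = imF s y := by
      rw [← hround, hcyc]
    have e3 : imF s (imF t y) = imF t (imF s y) := by rw [← hts, tts]
    have h0z : sh t (imF s (imF t y)) = 0 := by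
      rw [e3, sh_imF ht lsy]
      exact h0t _ (hcs ▸ hcy)
    rw [fixes, force_eq, hW, go3_cons, go3_cons, go3_cons, go3_cons]
    refine Nat.beq_eq ▸ ?_
    show im3 s (im3 t (im3 s (im3 t (3 * y)))) = 3 * y
    rw [← add_zero (3 * y), im3_eq t y (by norm_num), h0t y hcy, im3_eq s _ (Nat.mod_lt _ (by norm_num)), hvz,
      im3_eq t _ (Nat.mod_lt _ (by norm_num)), h0z, im3_eq s _ (Nat.mod_lt _ (by norm_num)), hcyc, hts,
      sh_imF hs hy, hv]
    omega
  by_cases hle : x ≤ imF s x
  · exact small x hx hc hle p hp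
  · obtain ⟨h1, h2⟩ := imF_spec hs hx
    have hc' : code (imF s x) / 2 = s + 1 := by rw [(code_spec hx hc).2.2.1, hc]
    have := small _ h1 hc' (by omega) (lift s p) (by rw [lift_div hs, hp])
    have k := (pair_keep hs ht this).1
    rwa [lift_lift] at k

theorem pair_one {s t : ℕ} (hs : s < 12) (ht : t < 12) : (lift s * lift t) ^ lab s t = 1 := by
  rcases eq_or_ne t s with rfl | hne
  · rw [lift_sq, one_pow]
  rw [← pair_ev]
  obtain ⟨hw, hb⟩ := pair_spec hs ht
  refine eq_one_of_hits hw (pair_even s hs t ht) hb (fun u hu p hp => ?_) fun u hu x hx hsh p hp => ?_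
  · rcases pair_mem hu with rfl | rfl
    exacts [(pair_keep hs ht hp).1, (pair_keep hs ht hp).2]
  · rcases pair_mem hu with rfl | rfl
    · exact pair_hit ht hne hx (sh_ne_zero hsh) p hp
    · have h := pair_hit hs hne.symm hx (sh_ne_zero hsh) p hp
      rw [pair_swap hs ht] at h
      have := fix_inv h
      rwa [inv_inv] at this

/-- The sheets satisfy the relators of the diagram. -/
theorem cox12 : Cox12 lift := ⟨lift_sq, fun _ hs _ ht => pair_one hs ht⟩

theorem e7_letters : ∀ u ∈ e7W, u = 0 ∨ u ∈ vW := by decide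

theorem inE7_letters : ∀ u < 12, ((e7Mask >>> u) % 2 = 1 ↔ u = 0 ∨ u ∈ vW) := by decide

theorem e7_eq : ev lift e7W = lift 0 * ev lift vW ^ 9 := by
  rw [e7W, ev, show ([2, 3, 4, 5, 6, 7, 10] : List ℕ) = vW from rfl, ev_power]

theorem e7_comm {u : ℕ} (hu : u = 0 ∨ u ∈ vW) : Commute (lift u) (ev lift e7W) := by
  rw [e7_eq]
  have hl : ∀ v ∈ vW, Commute (lift 0) (lift v) := fun v hv =>
    cox12.comm (by norm_num) (by revert hv; revert v; decide) (by revert hv; revert v; decide)
  have hev : ∀ L : List ℕ, (∀ v ∈ L, v ∈ vW) → Commute (lift 0) (ev lift L) := by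
    intro L
    induction L with
    | nil => exact fun _ => Commute.one_right _
    | cons v L ih => exact fun h => (hl v (h v (by simp))).mul_right (ih fun w hw => h w (by simp [hw]))
  rcases hu with rfl | hu
  · exact (Commute.refl _).mul_right ((hev vW fun _ h => h).pow_right 9)
  · exact (hl u hu).symm.mul_right (cox12.vW_pow_comm hu)

theorem e7_keep {u : ℕ} (hu : u = 0 ∨ u ∈ vW) {p : Yp} (h : ev lift e7W p = p) :
    ev lift e7W (lift u p) = lift u p := by
  rw [← Equiv.Perm.mul_apply, ← (e7_comm hu).eq, Equiv.Perm.mul_apply, h]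

theorem e7_hit : ∀ x, x < M → inE7 (code x) = true → ∀ p : Yp, (p : ℕ) / 3 = x → ev lift e7W p = p := by
  intro x
  induction x using Nat.strong_induction_on with
  | _ x ih =>
    intro hx hc p hp
    obtain ⟨hw, hb⟩ := base_fix e7_base
    simp only [inE7, Bool.and_eq_true] at hc
    obtain ⟨hc2, hcm⟩ := hc
    have h2 := Nat.le_of_ble_eq_true hc2
    obtain ⟨s, hs⟩ : ∃ s, code x / 2 = s + 1 := ⟨code x / 2 - 1, by omega⟩
    obtain ⟨h0, h12, hcs, hmore⟩ := code_spec hx hs
    have hu : s = 0 ∨ s ∈ vW := (inE7_letters s h12).1 (by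
      rw [hs, Nat.add_sub_cancel] at hcm
      exact Nat.eq_of_beq_eq_true hcm)
    obtain ⟨ls, -⟩ := imF_spec h12 hx
    have hinE : ∀ y, code y = code x → inE7 (code y) = true := fun y hy => by
      simp only [inE7, hy, Bool.and_eq_true]
      exact ⟨hc2, hcm⟩
    by_cases hle : x ≤ imF s x
    · have hE := (hmore hle).1
      rw [chkE, show inE7 (code x) = true from hinE x rfl, cond_true, Bool.or_eq_true] at hE
      rcases hE with hE | hE
      · obtain ⟨t, ht, hE⟩ := List.any_eq_true.1 hE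
        rw [force_eq, Bool.and_eq_true, force_eq] at hE
        have ht' : t = 0 ∨ t ∈ vW := by
          simpa [vW] using ht
        have t12 : t < 12 := by
          simp only [List.mem_cons, List.not_mem_nil, or_false] at ht
          omega
        obtain ⟨lt', -⟩ := imF_spec t12 hx
        have := ih _ (Nat.le_of_ble_eq_true hE.1) lt' hE.2 (lift t p) (by rw [lift_div t12, hp])
        have k := e7_keep ht' this
        rwa [lift_lift] at k
      · exact fix_fibre hw (by decide) (hb x hx) hE p hp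
    · have := ih _ (by omega) ls (hinE _ hcs) (lift s p) (by rw [lift_div h12, hp])
      have k := e7_keep hu this
      rwa [lift_lift] at k

theorem e7_one : ev lift e7W = 1 := by
  obtain ⟨hw, hb⟩ := base_fix e7_base
  refine eq_one_of_hits hw (by decide) hb (fun u hu p hp => e7_keep (e7_letters u hu) hp)
    fun u hu x hx hsh p hp => e7_hit x hx ?_ p hp
  have hc := sh_ne_zero hsh
  simp only [inE7, Bool.and_eq_true]
  refine ⟨Nat.ble_eq_true_of_le (by omega), ?_⟩
  rw [hc, Nat.add_sub_cancel, (inE7_letters u (hw u hu)).2 (e7_letters u hu)]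
  rfl

end Cfsg.Agent.Spor.Cos.Fi24Mult
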